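import Groth.Agent.SchemeMorphisms.ZClos.QCoh
import Groth.Agent.SchemeMorphisms.AssFiltration
import Groth.Agent.Calg1.DepthTwo

/-!
Pointwise purity and closedness of coherent modules along `Z` through depth.
-/

universe u

open CategoryTheory CategoryTheory.Limits AlgebraicGeometry TopologicalSpace Opposite Pointwise

set_option backward.isDefEq.respectTransparency false

namespace Groth.ZClosAux

open ZClos
open Groth.CohTwo (res resR res_rfl res_res res_smul app_res eq_of_local exists_glue stalkLin stalkLin_germ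
  stalkLin_comp stalk_germ_res stalk_exists_germ stalk_germ_smul)
open Groth.SchemeMorphisms (mem_ass_iff mem_ass_iff_weak)

variable {X : Scheme.{u}} [IsLocallyNoetherian X] {Z : Set X} {F : X.Modules}

omit [IsLocallyNoetherian X] in
theorem exists_affine_mem' (x : X) : ∃ A : X.Opens, IsAffineOpen A ∧ x ∈ A :=
  let ⟨A, hA, hx, _⟩ := exists_affine_le (V := ⊤) (x := x) trivial
  ⟨A, hA, hx⟩

/-- Associated points through the socle of the stalk. -/
theorem mem_ass_iff_socle (hF : Coh.IsQCoh F) (x : X) :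
    x ∈ AssSch.Ass F ↔ ∃ z : F.presheaf.stalk x, z ≠ 0 ∧
      ∀ a : X.presheaf.stalk x, a ∈ IsLocalRing.maximalIdeal (X.presheaf.stalk x) → a • z = 0 := by
  constructor
  · intro hx
    have : F.IsQuasicoherent := hF
    obtain ⟨A, hA, hxA⟩ := exists_affine_mem' x
    have := Groth.SchemeMorphisms.isNoetherianRing_section hA
    obtain ⟨-, s, hs⟩ := isAssociatedPrime_iff.mp ((mem_ass_iff hF hA hxA).mp hx)
    exact ⟨_, Groth.SchemeMorphisms.germ_socle hA hxA s fun r => by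
      rw [hs, Submodule.mem_colon_singleton, Submodule.mem_bot]⟩
  · rintro ⟨z, hz, hm⟩
    rw [mem_ass_iff_weak, Groth.Divisors.isWeakAssPoint_iff]
    exact ⟨z, fun a ha hu => hz (hu.smul_eq_zero.mp ha),
      fun a ha => ⟨1, by rw [pow_one]; exact hm a ((IsLocalRing.mem_maximalIdeal a).mpr ha)⟩⟩

theorem one_le_depth_stalk_iff (hF : Coh.IsCoh F) (y : X) :
    (1 : ℕ∞) ≤ LocCoh.depth (X.presheaf.stalk y) (F.presheaf.stalk y) ↔ y ∉ AssSch.Ass F := by
  have : F.IsQuasicoherent := hF.1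
  have := Groth.QCohMod.finite_stalk F hF.2 y
  rw [LocCoh.depth, Groth.LocCohBase.one_le_idealDepth_iff]
  constructor
  · intro h hy
    obtain ⟨z, hz, hm⟩ := (mem_ass_iff_socle hF.1 y).mp hy
    refine h (IsLocalRing.maximalIdeal _) (isAssociatedPrime_iff.mpr ⟨inferInstance, z, ?_⟩) le_rfl
    refine (IsLocalRing.maximalIdeal.isMaximal _).eq_of_le (fun htop => hz ?_) fun a ha => ?_
    · have h1 := (Ideal.eq_top_iff_one _).mp htop
      rwa [Submodule.mem_colon_singleton, one_smul, Submodule.mem_bot] at h1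
    · rw [Submodule.mem_colon_singleton, Submodule.mem_bot]; exact hm a ha
  · intro h q hq hle
    obtain ⟨hqp, z, hz⟩ := isAssociatedPrime_iff.mp hq
    refine h ((mem_ass_iff_socle hF.1 y).mpr ⟨z, fun h0 => hqp.ne_top ?_, fun a ha => ?_⟩)
    · rw [hz, Ideal.eq_top_iff_one, Submodule.mem_colon_singleton, h0, smul_zero]
      exact Submodule.zero_mem _
    · have := hle ha
      rwa [hz, Submodule.mem_colon_singleton, Submodule.mem_bot] at this

/-- The closure of a point of `Z` as a member of the index. -/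
def clPoint (hZ : StableUnderSpecialization Z) {y : X} (hy : y ∈ Z) : Cl Z :=
  ⟨⟨closure {y}, isClosed_closure⟩, fun _ hz => hZ (specializes_iff_mem_closure.mpr hz) hy⟩

omit [IsLocallyNoetherian X] in
theorem rhoStalk_germ {V : X.Opens} {x : X} (hx : x ∈ V) (s : Γ(F, V)) :
    rhoStalk Z F x (F.presheaf.germ V x hx s) =
      ((H0 Z).obj F).presheaf.germ V x hx ((rhoApp Z F).app V s) :=
  stalkLin_germ (rhoApp Z F) x hx s

theorem isZPureAt_iff (hZ : StableUnderSpecialization Z) (hF : Coh.IsQCoh F) (x : X) :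
    IsZPureAt Z F x ↔ ∀ y : X, y ⤳ x → y ∈ Z → y ∉ AssSch.Ass F := by
  have : F.IsQuasicoherent := hF
  constructor
  · intro h y hyx hyZ hy
    obtain ⟨A, hA, hxA⟩ := exists_affine_mem' x
    have hyA : y ∈ A := hyx.mem_open A.isOpen hxA
    have := Groth.SchemeMorphisms.isNoetherianRing_section hA
    obtain ⟨-, s, hs⟩ := isAssociatedPrime_iff.mp ((mem_ass_iff hF hA hyA).mp hy)
    have hs' : ∀ r : Γ(X, A), r ∈ (hA.primeIdealOf ⟨y, hyA⟩).asIdeal ↔ r • s = 0 := fun r => by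
      rw [hs, Submodule.mem_colon_singleton, Submodule.mem_bot]
    have hres : res F (inf_le_left : A ⊓ (clPoint hZ hyZ).U ≤ A) s = 0 := by
      refine TopCat.Presheaf.section_ext ⟨F.presheaf, F.isSheaf⟩ _ _ 0 fun z hz => ?_
      erw [map_zero, stalk_germ_res]
      have hle : ¬ (hA.primeIdealOf ⟨y, hyA⟩).asIdeal ≤ (hA.primeIdealOf ⟨z, hz.1⟩).asIdeal := by
        intro hle
        have hsp := ((PrimeSpectrum.le_iff_specializes _ _).mp hle).map hA.fromSpec.continuous
        rw [hA.fromSpec_primeIdealOf, hA.fromSpec_primeIdealOf] at hsp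
        exact hz.2 (specializes_iff_mem_closure.mp hsp)
      obtain ⟨r, hr, hr'⟩ := SetLike.not_le_iff_exists.mp hle
      have hu := (Scheme.mem_basicOpen X r z hz.1).mp
        ((Groth.QCohMod.mem_basicOpen_iff_notMem_primeIdealOf hA r z hz.1).mpr hr')
      refine hu.smul_eq_zero.mp ?_
      rw [← stalk_germ_smul, (hs' r).mp hr, map_zero]
    have h0 : F.presheaf.germ A x hxA s = 0 := h (by
      rw [map_zero, rhoStalk_germ, rho_app_apply (clPoint hZ hyZ), hres, map_zero, map_zero])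
    obtain ⟨a, ha, ha0⟩ := Groth.QCohMod.exists_smul_eq_zero_of_germ_eq_zero F hA x hxA s h0
    exact (Groth.QCohMod.mem_basicOpen_iff_notMem_primeIdealOf hA a y hyA).mp
      (hyx.mem_open (X.basicOpen a).isOpen ha) ((hs' a).mpr ha0)
  · intro h
    refine (injective_iff_map_eq_zero (rhoStalk Z F x).hom).2 fun z hz => ?_
    obtain ⟨V, hxV, s, rfl⟩ := stalk_exists_germ F x z
    replace hz : ((H0 Z).obj F).presheaf.germ V x hxV ((rhoApp Z F).app V s) =
        ((H0 Z).obj F).presheaf.germ V x hxV 0 := by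
      rw [map_zero]; exact (rhoStalk_germ hxV s).symm.trans hz
    obtain ⟨W, hxW, i₁, i₂, e⟩ := ((H0 Z).obj F).presheaf.germ_eq x hxV hxV _ _ hz
    rw [map_zero] at e
    have e' : (rhoApp Z F).app W (res F i₁.le s) = 0 := (app_res _ i₁.le s).trans e
    rw [rho_app_apply ⊥] at e'
    obtain ⟨W', hW', T', hT, hxW', h0⟩ := exists_local_zero ⊥ W _ e' hxW
    rw [res_res, res_res] at h0
    by_contra hne
    have hne' : F.presheaf.germ W' x hxW' (res F (hW'.trans i₁.le) s) ≠ 0 := by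
      rw [stalk_germ_res]; exact hne
    obtain ⟨y, hyW', hyx, hwa, hy0⟩ := Groth.Divisors.exists_weakAss_germ_ne_zero hF _ hxW' hne'
    by_cases hyT : y ∈ T'.U
    · refine hy0 ?_
      rw [← stalk_germ_res F y (inf_le_left : W' ⊓ T'.U ≤ W') ⟨hyW', hyT⟩, res_res, h0, map_zero]
    · exact h y hyx (T'.2 (not_not.mp hyT)) (mem_ass_iff_weak.mpr hwa)

section Unit

variable (T : Cl Z)

omit [IsLocallyNoetherian X] in
theorem toDiagram_stalk_surjective {y : X} (hy : y ∈ T.U) :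
    Function.Surjective (stalkLin (toDiagram Z F T) y) := by
  intro z
  obtain ⟨W, hyW, w, rfl⟩ := stalk_exists_germ (((diagram Z).obj F).obj T) y z
  refine ⟨F.presheaf.germ (W ⊓ T.U) y ⟨hyW, hy⟩ (res F (le_image_preimage T.U W) w), ?_⟩
  rw [stalkLin_germ, toDiagram_app, res_res]
  exact stalk_germ_res (((diagram Z).obj F).obj T) y (inf_le_left : W ⊓ T.U ≤ W) ⟨hyW, hy⟩ w

omit [IsLocallyNoetherian X] in
theorem toDiagram_stalk_injective {y : X} (hy : IsZPureAt Z F y) :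
    Function.Injective (stalkLin (toDiagram Z F T) y) := fun a b e => by
  refine hy ?_
  change stalkLin (rhoApp Z F) y a = stalkLin (rhoApp Z F) y b
  rw [rhoApp_eq Z F T, stalkLin_comp, stalkLin_comp, e]

end Unit

theorem isZClosedAt_of_depth (hZ : StableUnderSpecialization Z) (hF : Coh.IsCoh F) (x : X)
    (h : ∀ y : X, y ⤳ x → y ∈ Z → (2 : ℕ∞) ≤ LocCoh.depth (X.presheaf.stalk y) (F.presheaf.stalk y)) :
    IsZClosedAt Z F x := by
  have : F.IsQuasicoherent := hF.1
  have hpure : ∀ y : X, y ⤳ x → IsZPureAt Z F y := fun y hyx => (isZPureAt_iff hZ hF.1 y).mpr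
    fun w hwy hwZ => (one_le_depth_stalk_iff hF w).mp
      (le_trans (by norm_num) (h w (hwy.trans hyx) hwZ))
  refine ⟨hpure x specializes_rfl, fun z => ?_⟩
  obtain ⟨V, hxV, s, rfl⟩ := stalk_exists_germ ((H0 Z).obj F) x z
  obtain ⟨W, hW, T, t, hxW, ht⟩ := exists_local_rep V s hxV
  let P := ((diagram Z).obj F).obj T
  let t' : Γ(P, W) := res F (image_preimage_le T.U W) t
  let φ := toDiagram Z F T
  suffices hmem : ∃ w, stalkLin φ x w = P.presheaf.germ W x hxW t' by
    obtain ⟨w, hw⟩ := hmem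
    refine ⟨w, ?_⟩
    change stalkLin (rhoApp Z F) x w = _
    rw [rhoApp_eq Z F T, stalkLin_comp, hw, stalkLin_germ]
    change ((H0 Z).obj F).presheaf.germ W x hxW (imgH Z F T W t) = _
    rw [ht, stalk_germ_res]
  have hP : Coh.IsQCoh P := isQCoh_resPush T.U hF.1
  have : P.IsQuasicoherent := hP
  have hG : Coh.IsQCoh (cokernel φ) := Groth.QCohMod.isQCoh_cokernel φ
  have hexact : ∀ (y : X) (w : P.presheaf.stalk y), stalkLin (cokernel.π φ) y w = 0 →
      ∃ v, stalkLin φ y v = w := fun y w hw =>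
    (ShortComplex.ab_exact_iff _).mp ((Groth.QCohMod.exact_iff_stalk
      (ShortComplex.mk _ _ (cokernel.condition φ))).mp
        (ShortComplex.exact_of_g_is_cokernel _ (cokernelIsCokernel φ)) y) w hw
  refine hexact x _ ?_
  rw [stalkLin_germ]
  by_contra hne
  obtain ⟨y, hyW, hyx, hwa, -⟩ := Groth.Divisors.exists_weakAss_germ_ne_zero hG _ hxW hne
  obtain ⟨z', hz', hm⟩ := (mem_ass_iff_socle hG y).mp (mem_ass_iff_weak.mpr hwa)
  obtain ⟨w', hw'⟩ := (Groth.QCohMod.epi_iff_stalk (cokernel.π φ)).mp inferInstance y z'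
  replace hw' : stalkLin (cokernel.π φ) y w' = z' := hw'
  refine hz' ?_
  have hcomp : ∀ v, stalkLin (cokernel.π φ) y (stalkLin φ y v) = 0 := fun v => by
    rw [← stalkLin_comp, cokernel.condition, Groth.CohTwo.stalkLin_zero]
  suffices hr : w' ∈ LinearMap.range (stalkLin φ y) by
    obtain ⟨v, hv⟩ := hr
    rw [← hw', ← hv, hcomp]
  by_cases hyT : y ∈ T.U
  · exact toDiagram_stalk_surjective T hyT w'
  have := Groth.QCohMod.finite_stalk F hF.2 y
  refine Groth.Calg1.mem_range_of_two_le_depth (stalkLin φ y)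
    (toDiagram_stalk_injective T (hpure y hyx)) (h y hyx (T.2 (not_not.mp hyT))) (fun n hn => ?_)
    (fun a ha => hexact y _ ?_)
  · by_contra hn0
    exact hyT (ass_resPush_subset T.U hF.1 ((mem_ass_iff_socle hP y).mpr ⟨n, hn0, hn⟩))
  · rw [map_smul, hw', hm a ha]

section Converse

variable (hZ : StableUnderSpecialization Z)

theorem exists_affine_ass_specializes (hF : Coh.IsCoh F) (x : X) :
    ∃ A : X.Opens, IsAffineOpen A ∧ x ∈ A ∧ ∀ e ∈ AssSch.Ass F, e ∈ A → e ⤳ x := by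
  obtain ⟨A, hA, hxA⟩ := exists_affine_mem' x
  have hfin : {e : X | e ∈ AssSch.Ass F ∧ e ∈ A ∧ ¬ e ⤳ x}.Finite :=
    (Groth.SchemeMorphisms.finite_ass_inter hF hA).subset fun e he => ⟨he.1, he.2.1⟩
  let O : X.Opens := ⟨(A : Set X) ∩ ⋂ e ∈ {e : X | e ∈ AssSch.Ass F ∧ e ∈ A ∧ ¬ e ⤳ x},
    (closure ({e} : Set X))ᶜ,
    A.isOpen.inter (hfin.isOpen_biInter fun e _ => isClosed_closure.isOpen_compl)⟩
  obtain ⟨B, hB, hxB, hBO⟩ := exists_affine_le (V := O) (x := x)
    ⟨hxA, Set.mem_iInter₂.mpr fun e he hx => he.2.2 (specializes_iff_mem_closure.mpr hx)⟩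
  refine ⟨B, hB, hxB, fun e he heB => by_contra fun hex => ?_⟩
  exact Set.mem_iInter₂.mp (hBO heB).2 e ⟨he, (hBO heB).1, hex⟩ (subset_closure rfl)

omit [IsLocallyNoetherian X] in
theorem smul_regular_germ (hF : Coh.IsQCoh F) {A : X.Opens} (hA : IsAffineOpen A) {z : X} (hz : z ∈ A)
    {a : Γ(X, A)} (ha : IsSMulRegular Γ(F, A) a) :
    IsSMulRegular (F.presheaf.stalk z) (X.presheaf.germ A z hz a) := by
  have : F.IsQuasicoherent := hF
  refine isSMulRegular_iff_right_eq_zero_of_smul.mpr fun w hw => ?_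
  obtain ⟨c, m, hc, hm⟩ := Groth.QCohMod.exists_smul_germ_eq F hA z hz w
  have h0 : F.presheaf.germ A z hz (a • m) = 0 := by
    rw [stalk_germ_smul]
    change X.presheaf.germ A z hz a • Groth.QCohMod.germ F z hz m = 0
    rw [← hm, smul_comm, hw, smul_zero]
  obtain ⟨d, hd, hd0⟩ := Groth.QCohMod.exists_smul_eq_zero_of_germ_eq_zero F hA z hz _ h0
  have hdm : d • m = 0 := ha.right_eq_zero_of_smul (by rw [smul_comm]; exact hd0)
  have hm0 : Groth.QCohMod.germ F z hz m = 0 := ((Scheme.mem_basicOpen X d z hz).mp hd).smul_eq_zero.mp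
    (by rw [← Groth.QCohMod.germ_smul, hdm, map_zero])
  exact ((Scheme.mem_basicOpen X c z hz).mp hc).smul_eq_zero.mp (hm.trans hm0)

omit [IsLocallyNoetherian X] in
theorem smul_regular_sections (hF : Coh.IsQCoh F) {A : X.Opens} (hA : IsAffineOpen A)
    {a : Γ(X, A)} (ha : IsSMulRegular Γ(F, A) a) {W : X.Opens} (hW : W ≤ A) :
    IsSMulRegular Γ(F, W) (resR X hW a) := by
  refine isSMulRegular_iff_right_eq_zero_of_smul.mpr fun s hs => ?_
  refine TopCat.Presheaf.section_ext ⟨F.presheaf, F.isSheaf⟩ _ _ 0 fun z hz => ?_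
  erw [map_zero]
  refine (smul_regular_germ hF hA (hW hz) ha).right_eq_zero_of_smul ?_
  rw [← TopCat.Presheaf.germ_res_apply X.presheaf (homOfLE hW) z hz a]
  exact (stalk_germ_smul F z hz (resR X hW a) s).symm.trans (by rw [hs, map_zero])

include hZ in
theorem two_le_depth_of_isZClosedAt (hF : Coh.IsCoh F) {x : X} (h : IsZClosedAt Z F x) {y : X}
    (hyx : y ⤳ x) (hyZ : y ∈ Z) :
    (2 : ℕ∞) ≤ LocCoh.depth (X.presheaf.stalk y) (F.presheaf.stalk y) := by
  classical
  have : F.IsQuasicoherent := hF.1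
  have hpure := (isZPureAt_iff hZ hF.1 x).mp h.1
  obtain ⟨A, hA, hxA, hAx⟩ := exists_affine_ass_specializes hF x
  have := Groth.SchemeMorphisms.isNoetherianRing_section hA
  have := Groth.QCohMod.finite_sections F hF.2 hA
  have hfs := Groth.QCohMod.finite_stalk F hF.2 y
  have hyA : y ∈ A := hyx.mem_open A.isOpen hxA
  set p := (hA.primeIdealOf ⟨y, hyA⟩).asIdeal with hp
  obtain ⟨a, hap, ha⟩ : ∃ a ∈ p, IsSMulRegular Γ(F, A) a := by
    by_contra hno
    push Not at hno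
    have hsub : (p : Set Γ(X, A)) ⊆ ⋃ q ∈ associatedPrimes Γ(X, A) Γ(F, A), (q : Set Γ(X, A)) :=
      fun r hr => by
        rw [biUnion_associatedPrimes_eq_compl_regular]
        exact hno r hr
    obtain ⟨q, hq, hle⟩ := (p.subset_union_prime_finite (associatedPrimes.finite Γ(X, A) Γ(F, A))
      (f := id) 0 0 fun _ hq _ _ => hq.isPrime).1 hsub
    let q' : Spec Γ(X, A) := ⟨q, hq.isPrime⟩
    have he := Groth.SchemeMorphisms.fromSpec_mem_ass hF.1 hA q' hq
    have heA := Groth.SchemeMorphisms.fromSpec_mem hA q'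
    have hye : y ⤳ hA.fromSpec q' := by
      have hsp := ((PrimeSpectrum.le_iff_specializes (hA.primeIdealOf ⟨y, hyA⟩) q').mp hle).map
        hA.fromSpec.continuous
      rwa [hA.fromSpec_primeIdealOf] at hsp
    exact hpure _ (hAx _ he heA) (hZ hye hyZ) he
  set a' := X.presheaf.germ A y hyA a
  rcases subsingleton_or_nontrivial (F.presheaf.stalk y) with hM | hM
  · refine le_of_le_of_eq le_top (Eq.symm ?_)
    exact Groth.LocCohBase.idealDepth_eq_top_of_smul_top_eq_top (Subsingleton.elim _ _)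
  have hIM := Groth.LocCohBase.smul_maximalIdeal_ne_top (R := X.presheaf.stalk y)
    (F.presheaf.stalk y) (IsLocalRing.maximalIdeal.isMaximal _).ne_top
  have hmem : ∀ r : Γ(X, A), r ∈ p → X.presheaf.germ A y hyA r ∈
      IsLocalRing.maximalIdeal (X.presheaf.stalk y) := fun r hr =>
    (IsLocalRing.mem_maximalIdeal _).mpr fun hu =>
      (Groth.QCohMod.mem_basicOpen_iff_notMem_primeIdealOf hA r y hyA).mp
        ((Scheme.mem_basicOpen X r y hyA).mpr hu) hr
  rw [LocCoh.depth, ← Groth.LocCohBase.idealDepth_quotSMulTop_add_one _ _ hIM (hmem a hap)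
    (smul_regular_germ hF.1 hA hyA ha)]
  suffices h1 : (1 : ℕ∞) ≤ LocCoh.idealDepth (IsLocalRing.maximalIdeal (X.presheaf.stalk y))
      (QuotSMulTop a' (F.presheaf.stalk y)) by
    calc (2 : ℕ∞) = 1 + 1 := by norm_num
      _ ≤ _ := add_le_add h1 le_rfl
  refine (Groth.LocCohBase.one_le_idealDepth_iff _ _).mpr fun q hq hle => ?_
  obtain ⟨hqp, z, hz⟩ := isAssociatedPrime_iff.mp hq
  obtain ⟨f₀, rfl⟩ := Submodule.Quotient.mk_surjective _ z
  have hf₀ : f₀ ∉ a' • (⊤ : Submodule (X.presheaf.stalk y) (F.presheaf.stalk y)) := fun hmem0 => by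
    refine hqp.ne_top ?_
    rw [hz, Ideal.eq_top_iff_one, Submodule.mem_colon_singleton, Submodule.mem_bot, one_smul]
    exact (Submodule.Quotient.mk_eq_zero _).mpr hmem0
  have hkill : ∀ r ∈ p, ∃ w, a' • w = X.presheaf.germ A y hyA r • f₀ := fun r hr => by
    have h1 := hle (hmem r hr)
    rw [hz, Submodule.mem_colon_singleton, Submodule.mem_bot, ← Submodule.Quotient.mk_smul,
      Submodule.Quotient.mk_eq_zero, Submodule.mem_smul_pointwise_iff_exists] at h1
    obtain ⟨w, -, hw⟩ := h1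
    exact ⟨w, hw⟩
  obtain ⟨u, f, hu, hf⟩ := Groth.QCohMod.exists_smul_germ_eq F hA y hyA f₀
  have hunit : ∀ r : Γ(X, A), y ∈ X.basicOpen r → IsUnit (X.presheaf.germ A y hyA r) := fun r hr =>
    (Scheme.mem_basicOpen X r y hyA).mp hr
  have hbasic : ∀ r r' : Γ(X, A), y ∈ X.basicOpen r → y ∈ X.basicOpen r' → y ∈ X.basicOpen (r * r') :=
    fun r r' h h' => by rw [Scheme.basicOpen_mul]; exact ⟨h, h'⟩
  -- one denominator for all of `p`
  let I : Ideal Γ(X, A) := (LinearMap.range (LinearMap.lsmul Γ(X, A) Γ(F, A) a)).comap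
    (LinearMap.toSpanSingleton Γ(X, A) Γ(F, A) f)
  have hI : ∀ r, r ∈ I ↔ ∃ m, a • m = r • f := fun r => Iff.rfl
  have hclear : ∀ r ∈ p, ∃ c : Γ(X, A), y ∈ X.basicOpen c ∧ c * r ∈ I := by
    intro r hr
    obtain ⟨w, hw⟩ := hkill r hr
    obtain ⟨c, m, hc, hm⟩ := Groth.QCohMod.exists_smul_germ_eq F hA y hyA w
    have h0 : Groth.QCohMod.germ F y hyA (u • a • m - c • r • f) = 0 := by
      rw [map_sub, sub_eq_zero]
      simp only [Groth.QCohMod.germ_smul, ← hm, ← hf]
      rw [smul_comm a' (X.presheaf.germ A y hyA c) w, hw, smul_comm _ (X.presheaf.germ A y hyA c),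
        smul_comm (X.presheaf.germ A y hyA r)]
    obtain ⟨d, hd, hd0⟩ := Groth.QCohMod.exists_smul_eq_zero_of_germ_eq_zero F hA y hyA _ h0
    refine ⟨d * c, hbasic d c hd hc, (hI _).mpr ⟨d • u • m, ?_⟩⟩
    rw [smul_sub, sub_eq_zero] at hd0
    rw [mul_smul, mul_smul, ← hd0, smul_comm a d, smul_comm a u]
  obtain ⟨G, hG⟩ := (IsNoetherian.noetherian p)
  choose c hc hcI using fun r : G => hclear r.1 (hG.le (Submodule.subset_span r.2))
  set d := ∏ r : G, c r with hd_def
  have hd : y ∈ X.basicOpen d := by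
    rw [Scheme.mem_basicOpen X d y hyA, map_prod]
    exact IsUnit.prod_univ_iff.mpr fun r => hunit _ (hc r)
  have hdI : ∀ r ∈ p, ∃ m, a • m = r • d • f := by
    intro r hr
    have hle : p ≤ Submodule.comap (LinearMap.lsmul Γ(X, A) Γ(X, A) d) I := by
      rw [← hG, Submodule.span_le]
      intro g hg
      change d * g ∈ I
      rw [hd_def, ← Finset.prod_erase_mul Finset.univ c (Finset.mem_univ ⟨g, hg⟩), mul_assoc]
      exact I.mul_mem_left _ (hcI ⟨g, hg⟩)
    obtain ⟨m, hm⟩ := (hI _).mp (hle hr)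
    refine ⟨m, hm.trans ?_⟩
    change (d * r) • f = r • d • f
    rw [mul_comm, mul_smul]
  -- the section `d f / a` off the closure of `y`
  let T := clPoint hZ hyZ
  have hcov : ∀ z ∈ A ⊓ T.U, ∃ r : Γ(X, A), r ∈ p ∧ z ∈ X.basicOpen r := by
    intro z hz'
    have hle' : ¬ p ≤ (hA.primeIdealOf ⟨z, hz'.1⟩).asIdeal := by
      intro hle'
      have hsp := ((PrimeSpectrum.le_iff_specializes _ _).mp hle').map hA.fromSpec.continuous
      rw [hA.fromSpec_primeIdealOf, hA.fromSpec_primeIdealOf] at hsp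
      exact hz'.2 (specializes_iff_mem_closure.mp hsp)
    obtain ⟨r, hr, hr'⟩ := SetLike.not_le_iff_exists.mp hle'
    exact ⟨r, hr, (Groth.QCohMod.mem_basicOpen_iff_notMem_primeIdealOf hA r z hz'.1).mpr hr'⟩
  choose r hrp hzr using fun z : {z : X // z ∈ A ⊓ T.U} => hcov z.1 z.2
  choose m hm using fun z => hdI (r z) (hrp z)
  have hrle : ∀ z, X.basicOpen (r z) ⊓ (A ⊓ T.U) ≤ A := fun z => inf_le_right.trans inf_le_left
  have hinv : ∀ z, IsUnit (resR X (hrle z) (r z)) := fun z => by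
    have h1 : IsUnit (resR X (X.basicOpen_le (r z)) (r z)) := RingedSpace.isUnit_res_basicOpen _ _
    have := h1.map (resR X (inf_le_left : X.basicOpen (r z) ⊓ (A ⊓ T.U) ≤ X.basicOpen (r z)))
    rw [resR, resR, ← CommRingCat.comp_apply, ← Functor.map_comp] at this
    exact this
  let tz : ∀ z, Γ(F, X.basicOpen (r z) ⊓ (A ⊓ T.U)) := fun z =>
    (↑(hinv z).unit⁻¹ : Γ(X, X.basicOpen (r z) ⊓ (A ⊓ T.U))) • res F (hrle z) (m z)
  have hatz : ∀ z, resR X (hrle z) a • tz z = res F (hrle z) (d • f) := fun z => by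
    rw [smul_comm, ← res_smul, hm z, res_smul, ← mul_smul, IsUnit.val_inv_mul, one_smul]
  obtain ⟨t, ht⟩ := exists_glue F (W := A ⊓ T.U) (ι := {z : X // z ∈ A ⊓ T.U})
    (fun z => X.basicOpen (r z) ⊓ (A ⊓ T.U)) (fun z => inf_le_right)
    (fun z hz' => ⟨⟨z, hz'⟩, hzr _, hz'⟩) tz (fun i j => by
      refine smul_regular_sections hF.1 hA ha (inf_le_left.trans (hrle i)) ?_
      have e1 := congrArg (res F (inf_le_left : (X.basicOpen (r i) ⊓ (A ⊓ T.U)) ⊓
        (X.basicOpen (r j) ⊓ (A ⊓ T.U)) ≤ X.basicOpen (r i) ⊓ (A ⊓ T.U))) (hatz i)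
      have e2 := congrArg (res F (inf_le_right : (X.basicOpen (r i) ⊓ (A ⊓ T.U)) ⊓
        (X.basicOpen (r j) ⊓ (A ⊓ T.U)) ≤ X.basicOpen (r j) ⊓ (A ⊓ T.U))) (hatz j)
      rw [res_smul, res_res] at e1 e2
      simp only [resR, ← CommRingCat.comp_apply, ← Functor.map_comp] at e1 e2 ⊢
      exact e1.trans e2.symm)
  have hat : resR X (inf_le_left : A ⊓ T.U ≤ A) a • t = res F inf_le_left (d • f) := by
    refine eq_of_local F _ _ fun z hz' => ?_
    refine ⟨X.basicOpen (r ⟨z, hz'⟩) ⊓ (A ⊓ T.U), inf_le_right, ⟨hzr _, hz'⟩, ?_⟩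
    rw [res_smul, ht ⟨z, hz'⟩, res_res, ← hatz ⟨z, hz'⟩]
    congr 1
    simp only [resR, ← CommRingCat.comp_apply, ← Functor.map_comp]
    rfl
  obtain ⟨w, hw⟩ := h.2 (((H0 Z).obj F).presheaf.germ A x hxA (imgH Z F T A t))
  obtain ⟨V, hxV, g, rfl⟩ := stalk_exists_germ F x w
  -- at `x`
  have hx0 : X.presheaf.germ A x hxA a • F.presheaf.germ V x hxV g = F.presheaf.germ A x hxA (d • f) := by
    refine h.1 ?_
    change stalkLin (rhoApp Z F) x _ = stalkLin (rhoApp Z F) x _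
    rw [map_smul]
    change _ • rhoStalk Z F x _ = _
    rw [hw, stalkLin_germ, ← stalk_germ_smul, ← imgH_smul, hat, rho_app_apply T]
  -- and hence at `y`
  have hxVA : x ∈ V ⊓ A := ⟨hxV, hxA⟩
  rw [← stalk_germ_res F x (inf_le_left : V ⊓ A ≤ V) hxVA,
    ← stalk_germ_res F x (inf_le_right : V ⊓ A ≤ A) hxVA,
    ← TopCat.Presheaf.germ_res_apply X.presheaf (homOfLE (inf_le_right : V ⊓ A ≤ A)) x hxVA a,
    ← stalk_germ_smul] at hx0
  obtain ⟨W, hxW, i₁, i₂, e⟩ := F.presheaf.germ_eq x hxVA hxVA _ _ hx0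
  have hyW : y ∈ W := hyx.mem_open W.isOpen hxW
  have e' := congrArg (F.presheaf.germ W y hyW).hom e
  rw [TopCat.Presheaf.germ_res_apply, TopCat.Presheaf.germ_res_apply, stalk_germ_smul,
    TopCat.Presheaf.germ_res_apply, stalk_germ_res, stalk_germ_res, stalk_germ_smul] at e'
  refine hf₀ ?_
  obtain ⟨v, hv⟩ := (hunit d hd).mul (hunit u hu)
  refine (Submodule.mem_smul_pointwise_iff_exists _ _ _).mpr
    ⟨(↑v⁻¹ : X.presheaf.stalk y) • F.presheaf.germ V y (i₁.le hyW).1 g, Submodule.mem_top, ?_⟩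
  rw [smul_comm]
  refine (congrArg ((↑v⁻¹ : X.presheaf.stalk y) • ·) e').trans ?_
  change (↑v⁻¹ : X.presheaf.stalk y) • (_ • Groth.QCohMod.germ F y hyA f) = f₀
  rw [← hf, ← mul_smul, ← mul_smul, mul_assoc, ← hv, Units.inv_mul, one_smul]

include hZ in
theorem isZClosedAt_iff (hF : Coh.IsCoh F) (x : X) :
    IsZClosedAt Z F x ↔
      ∀ y : X, y ⤳ x → y ∈ Z → (2 : ℕ∞) ≤ LocCoh.depth (X.presheaf.stalk y) (F.presheaf.stalk y) :=
  ⟨fun h _ => two_le_depth_of_isZClosedAt hZ hF h, isZClosedAt_of_depth hZ hF x⟩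

end Converse

omit [IsLocallyNoetherian X] in
theorem isZClosedAt_of_isZClosed (h : IsZClosed Z F) (x : X) : IsZClosedAt Z F x := by
  have : IsIso (rhoApp Z F) := h
  exact ConcreteCategory.bijective_of_isIso ((Groth.QCohMod.stalk x).map (rhoApp Z F))

end Groth.ZClosAux
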