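import Groth.Agent.SchemeMorphisms.ZClos.Closed
import Groth.Agent.SchemeMorphisms.Ass
import Groth.Agent.QCohMod.Category
import Groth.Agent.QCohMod.Coherent
import Mathlib.Algebra.Category.ModuleCat.Colimits

/-!
Quasi-coherence of the Z-closure; the direct images off closed subsets of `Z` inside it.
-/

universe u

open CategoryTheory CategoryTheory.Limits AlgebraicGeometry TopologicalSpace Opposite

set_option backward.isDefEq.respectTransparency false

namespace Groth.ZClosAux

open ZClos
open Groth.CohTwo (res res_rfl res_res app_res eq_of_local mono_iff_app_injective app_injective)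

variable {X : Scheme.{u}} [IsLocallyNoetherian X] {Z : Set X} {F : X.Modules}

theorem isQCoh_resPush (U : X.Opens) (hF : Coh.IsQCoh F) : Coh.IsQCoh ((resPush U).obj F) := by
  have : F.IsQuasicoherent := hF
  have : ((Scheme.Modules.restrictFunctor U.ι).obj F).IsQuasicoherent :=
    Scheme.Modules.isQuasicoherent_restrictFunctor _ F
  exact Groth.QCohMod.isQCoh_pushforward (M := (Scheme.Modules.restrictFunctor U.ι).obj F) U.ι

variable (Z) in
theorem isQCoh_H0 (hF : Coh.IsQCoh F) : Coh.IsQCoh ((H0 Z).obj F) := by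
  have : ∀ T, (((diagram Z).obj F).obj T).IsQuasicoherent := fun T => isQCoh_resPush T.U hF
  exact Groth.QCohMod.isQCoh_of_isColimit ((diagram Z).obj F) _ (colimit.isColimit _)

theorem ass_resPush_subset (U : X.Opens) (hF : Coh.IsQCoh F) :
    AssSch.Ass ((resPush U).obj F) ⊆ (U : Set X) := by
  have : F.IsQuasicoherent := hF
  have hM : Coh.IsQCoh ((Scheme.Modules.restrictFunctor U.ι).obj F) :=
    Scheme.Modules.isQuasicoherent_restrictFunctor _ F
  rintro y hy
  obtain ⟨z, -, rfl⟩ := Groth.SchemeMorphisms.ass_push_subset U.ι hM hy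
  exact z.2

omit [IsLocallyNoetherian X] in
/-- Sections are determined off `T` when no associated point lies in `Z`. -/
theorem res_injective_of_ass (hF : Coh.IsQCoh F) {W W' : X.Opens} (h : W' ≤ W)
    (hass : ∀ x ∈ AssSch.Ass F, x ∈ W → x ∈ W') : Function.Injective (res F h) :=
  Groth.Divisors.restrict_injective hF h fun x hxW hwa =>
    hass x (Groth.SchemeMorphisms.mem_ass_iff_weak.mpr hwa) hxW

omit [IsLocallyNoetherian X] in
theorem mono_ι (hF : Coh.IsQCoh F) (hass : ∀ x ∈ AssSch.Ass F, x ∉ Z) (T : Cl Z) :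
    Mono (colimit.ι ((diagram Z).obj F) T) := by
  refine (mono_iff_app_injective _).2 fun V => (injective_iff_map_eq_zero _).2 fun z hz => ?_
  rw [ι_app_eq] at hz
  have h0 : res F (le_image_preimage T.U V) z = 0 := by
    refine eq_of_local F _ _ fun x hx => ?_
    obtain ⟨W, hW, T', hT, hxW, h0⟩ := exists_local_zero T V _ hz hx.1
    refine ⟨W ⊓ T.U, inf_le_inf_right _ hW, ⟨hxW, hx.2⟩, ?_⟩
    refine res_injective_of_ass hF (inf_U_le hT W)
      (fun y hy hyW => ⟨hyW.1, mem_U_of_not_mem (hass y hy) T'⟩) ?_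
    rw [res_res, map_zero, map_zero]
    exact h0
  have := congrArg (res F (image_preimage_le T.U V)) h0
  rwa [res_res, res_rfl, map_zero] at this

theorem isCoh_resPush (hF : Coh.IsCoh F) (hass : ∀ x ∈ AssSch.Ass F, x ∉ Z)
    (hH : Coh.IsCoh ((H0 Z).obj F)) (T : Cl Z) : Coh.IsCoh ((resPush T.U).obj F) := by
  have : ((resPush T.U).obj F).IsQuasicoherent := isQCoh_resPush T.U hF.1
  have : Mono (colimit.ι ((diagram Z).obj F) T) := mono_ι hF.1 hass T
  exact Groth.QCohMod.isCoh_of_mono
    (show (resPush T.U).obj F ⟶ (H0 Z).obj F from colimit.ι ((diagram Z).obj F) T) hH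

end Groth.ZClosAux
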