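import Groth.Prelude.Def_ZClos
import Groth.Agent.SiteCohomology.SchemeModules
import Mathlib.CategoryTheory.Abelian.GrothendieckAxioms.Basic
import Mathlib.CategoryTheory.Limits.Preserves.FunctorCategory

/-!
The Z-closure functor is left exact.
-/

universe u

open CategoryTheory CategoryTheory.Limits AlgebraicGeometry TopologicalSpace Opposite

set_option backward.isDefEq.respectTransparency false

namespace Groth.ZClosAux

open ZClos

variable {X : Scheme.{u}}

theorem preservesFiniteLimits_resPush (U : X.Opens) : PreservesFiniteLimits (resPush U) := by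
  refine ⟨fun J _ _ => ?_⟩
  let e : resPush U ⋙ Scheme.Modules.toPresheaf X ≅ Scheme.Modules.toPresheaf X ⋙
      (Functor.whiskeringLeft _ _ _).obj ((Opens.map U.ι.base).op ⋙ U.ι.opensFunctor.op) :=
    NatIso.ofComponents (fun M => Iso.refl _) fun {M N} φ => by ext V; rfl
  have : PreservesFiniteLimits (Scheme.Modules.toPresheaf X) :=
    PreservesLimitsOfSize.preservesFiniteLimits _
  have : PreservesLimitsOfShape J ((Functor.whiskeringLeft _ _ Ab.{u}).obj
      ((Opens.map U.ι.base).op ⋙ U.ι.opensFunctor.op)) :=
    ⟨fun {K} => ⟨fun {c} hc => ⟨evaluationJointlyReflectsLimits _ fun V =>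
      isLimitOfPreserves ((evaluation _ Ab.{u}).obj
        (((Opens.map U.ι.base).op ⋙ U.ι.opensFunctor.op).obj V)) hc⟩⟩⟩
  have : PreservesLimitsOfShape J (resPush U ⋙ Scheme.Modules.toPresheaf X) :=
    preservesLimitsOfShape_of_natIso e.symm
  have : ReflectsLimitsOfShape J (Scheme.Modules.toPresheaf X) :=
    reflectsLimitsOfShape_of_reflectsIsomorphisms
  exact preservesLimitsOfShape_of_reflects_of_preserves (resPush U) (Scheme.Modules.toPresheaf X)

theorem preservesFiniteLimits_H0 (Z : Set X) : PreservesFiniteLimits (H0 Z) := by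
  have : ∀ T : Cl Z, PreservesFiniteLimits (diagram Z ⋙ (evaluation (Cl Z) X.Modules).obj T) :=
    fun T => by
      have := preservesFiniteLimits_resPush T.U
      let e : resPush T.U ≅ diagram Z ⋙ (evaluation (Cl Z) X.Modules).obj T :=
        NatIso.ofComponents (fun M => Iso.refl _)
          fun {M N} φ => (Category.comp_id _).trans (Category.id_comp _).symm
      exact preservesFiniteLimits_of_natIso e
  have : PreservesFiniteLimits (diagram Z) := preservesFiniteLimits_of_evaluation _ this
  exact comp_preservesFiniteLimits (diagram Z) colim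

end Groth.ZClosAux
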