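import Groth.Agent.SchemeMorphisms.ZClos.Basic

/-!
The Z-closure is Z-closed; criteria on quasi-compact opens and on covers; recognising the Z-closure.
-/

universe u

open CategoryTheory CategoryTheory.Limits AlgebraicGeometry TopologicalSpace Opposite

set_option backward.isDefEq.respectTransparency false

namespace Groth.ZClosAux

open ZClos
open Groth.CohTwo (res res_rfl res_res app_res eq_of_local exists_glue mono_iff_app_injective
  app_injective isIso_of_app_bijective stalkLin_germ stalkAb stalk_germ_res)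

variable {X : Scheme.{u}} [IsLocallyNoetherian X] {Z : Set X} {F : X.Modules}

omit [IsLocallyNoetherian X] in
theorem res_injective_of_affine (T : Cl Z)
    (h : ∀ A : X.Opens, IsAffineOpen A → Function.Injective (res F (inf_le_left : A ⊓ T.U ≤ A)))
    (V : X.Opens) : Function.Injective (res F (inf_le_left : V ⊓ T.U ≤ V)) := by
  refine (injective_iff_map_eq_zero _).2 fun s hs => eq_of_local F _ _ fun x hx => ?_
  obtain ⟨A, hA, hxA, hAV⟩ := exists_affine_le hx
  refine ⟨A, hAV, hxA, h A hA ?_⟩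
  have := congrArg (res F (inf_le_inf_right T.U hAV)) hs
  rw [res_res, map_zero] at this
  rw [map_zero, map_zero, res_res]
  exact this

omit [IsLocallyNoetherian X] in
theorem res_bijective_of_affine (T : Cl Z)
    (h : ∀ A : X.Opens, IsAffineOpen A → Function.Bijective (res F (inf_le_left : A ⊓ T.U ≤ A)))
    (V : X.Opens) : Function.Bijective (res F (inf_le_left : V ⊓ T.U ≤ V)) := by
  have hinj : ∀ W : X.Opens, Function.Injective (res F (inf_le_left : W ⊓ T.U ≤ W)) :=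
    res_injective_of_affine T fun A hA => (h A hA).1
  refine ⟨hinj V, fun t => ?_⟩
  choose A hA hxA hAV using fun x : {x : X // x ∈ V} => exists_affine_le x.2
  choose a ha using fun x => (h (A x) (hA x)).2 (res F (inf_le_inf_right T.U (hAV x)) t)
  obtain ⟨g, hg⟩ := exists_glue F (W := V) (ι := {x : X // x ∈ V}) A hAV
    (fun x hx => ⟨⟨x, hx⟩, hxA _⟩) a fun i j => hinj _ (by
      have e1 := congrArg (res F (inf_le_inf_right T.U (inf_le_left : A i ⊓ A j ≤ A i))) (ha i)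
      have e2 := congrArg (res F (inf_le_inf_right T.U (inf_le_right : A i ⊓ A j ≤ A j))) (ha j)
      rw [res_res, res_res] at e1 e2
      rw [res_res, res_res, e1, e2])
  refine ⟨g, eq_of_local F _ _ fun x hx => ?_⟩
  refine ⟨A ⟨x, hx.1⟩ ⊓ T.U, inf_le_inf_right _ (hAV _), ⟨hxA _, hx.2⟩, ?_⟩
  rw [← ha, res_res, ← hg ⟨x, hx.1⟩, res_res]

omit [IsLocallyNoetherian X] in
theorem isZPure_iff_compact : IsZPure Z F ↔
    ∀ (T : Cl Z) (V : X.Opens), IsCompact (V : Set X) →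
      Function.Injective (res F (inf_le_left : V ⊓ T.U ≤ V)) := by
  rw [isZPure_iff_res_injective]
  exact ⟨fun h T V _ => h T V, fun h T => res_injective_of_affine T fun A hA => h T A hA.isCompact⟩

omit [IsLocallyNoetherian X] in
theorem isZClosed_iff_compact : IsZClosed Z F ↔
    ∀ (T : Cl Z) (V : X.Opens), IsCompact (V : Set X) →
      Function.Bijective (res F (inf_le_left : V ⊓ T.U ≤ V)) := by
  rw [isZClosed_iff_res_bijective]
  exact ⟨fun h T V _ => h T V, fun h T => res_bijective_of_affine T fun A hA => h T A hA.isCompact⟩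

/-- The Z-closure is Z-closed. -/
theorem isZClosed_H0 : IsZClosed Z ((H0 Z).obj F) := by
  rw [isZClosed_iff_compact]
  intro T V hV
  have hle : ∀ T' : Cl Z, V ⊓ (T ⊔ T').U ≤ V ⊓ T.U ⊓ T'.U := fun T' => by
    rw [sup_U, inf_assoc]
  have hge : ∀ T' : Cl Z, V ⊓ T.U ⊓ T'.U ≤ V ⊓ (T ⊔ T').U := fun T' => by
    rw [sup_U, inf_assoc]
  refine ⟨(injective_iff_map_eq_zero _).2 fun s hs => ?_, fun s => ?_⟩
  · obtain ⟨T₁, t, rfl⟩ := exists_rep hV s
    rw [res_imgH] at hs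
    obtain ⟨T₂, hT, h0⟩ := exists_zero_of_isCompact T₁ (isCompact_of_le hV inf_le_left) _ hs
    rw [← imgH_trans (hT.trans (le_sup_right : T₂ ≤ T ⊔ T₂))]
    have : res F (inf_U_le (hT.trans (le_sup_right : T₂ ≤ T ⊔ T₂)) V) t = 0 := by
      have e := congrArg (res F (hle T₂)) h0
      rw [res_res, res_res, map_zero] at e
      exact e
    rw [this, map_zero]
  · obtain ⟨T₁, t, rfl⟩ := exists_rep (isCompact_of_le hV inf_le_left) s
    refine ⟨imgH Z F (T ⊔ T₁) V (res F (hle T₁) t), ?_⟩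
    rw [res_imgH, res_res, ← imgH_trans (le_sup_right : T₁ ≤ T ⊔ T₁) (V ⊓ T.U) t]

/-- A section vanishing at the points off `Z` vanishes off a closed subset of `Z`. -/
theorem exists_cl_of_germ_zero (hZ : StableUnderSpecialization Z) {W : X.Opens} (t : Γ(F, W))
    (h : ∀ (y : X) (hy : y ∈ W), y ∉ Z → F.presheaf.germ W y hy t = 0) :
    ∃ T : Cl Z, res F (inf_le_left : W ⊓ T.U ≤ W) t = 0 := by
  let S : Set X := {y | ∃ hy : y ∈ W, F.presheaf.germ W y hy t ≠ 0}
  have hSW : S ⊆ (W : Set X) := fun y hy => hy.1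
  have hSZ : S ⊆ Z := fun y hy => by_contra fun hyZ => hy.2 (h y hy.1 hyZ)
  have hcl : closure S ∩ (W : Set X) ⊆ S := by
    rintro y ⟨hy, hyW⟩
    refine ⟨hyW, fun h0 => ?_⟩
    obtain ⟨O, hyO, i, i', e⟩ := F.presheaf.germ_eq y hyW hyW t 0 (h0.trans (map_zero _).symm)
    obtain ⟨z, hzO, hzW, hz⟩ := mem_closure_iff.mp hy O O.isOpen hyO
    refine hz ((stalk_germ_res F z i.le hzO t).symm.trans ?_)
    rw [show res F i.le t = 0 from e.trans (map_zero _), map_zero]
  let T : Cl Z := ⟨⟨closure S, isClosed_closure⟩, closure_subset_of_stable hZ W.isOpen hSW hcl hSZ⟩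
  refine ⟨T, TopCat.Presheaf.section_ext ⟨F.presheaf, F.isSheaf⟩ _ _ 0 fun y hy => ?_⟩
  erw [map_zero, stalk_germ_res]
  by_contra hne
  exact hy.2 (subset_closure ⟨hy.1, hne⟩)

section Fac

variable {F' : X.Modules} (hF' : IsZClosed Z F') (hZ : StableUnderSpecialization Z) (u : F ⟶ F')
  (hu : ∀ x : X, x ∉ Z → Function.Bijective (Groth.CohTwo.stalkLin u x))

include hF' hZ hu

theorem isIso_fac (v : (H0 Z).obj F ⟶ F') (hv : rhoApp Z F ≫ v = u) : IsIso v := by
  have hvu : ∀ (T : Cl Z) (V : X.Opens) (t : Γ(F, V ⊓ T.U)),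
      res F' inf_le_left (v.app V (imgH Z F T V t)) = u.app (V ⊓ T.U) t := fun T V t => by
    rw [← app_res, ← rho_self, ← hv]
    rfl
  have hinjF' := (isZPure_iff_res_injective Z F').1 (isZPure_of_isZClosed hF')
  have hker : ∀ (W : X.Opens) (d : Γ(F, W)), u.app W d = 0 →
      ∃ T : Cl Z, res F (inf_le_left : W ⊓ T.U ≤ W) d = 0 := fun W d hd =>
    exists_cl_of_germ_zero hZ d fun y hy hyZ => (hu y hyZ).1 (by
      rw [stalkLin_germ, hd, map_zero, map_zero])
  have hinj : ∀ V : X.Opens, IsCompact (V : Set X) → Function.Injective (v.app V) := by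
    refine fun V hV => (injective_iff_map_eq_zero _).2 fun s hs => ?_
    obtain ⟨T, t, rfl⟩ := exists_rep hV s
    obtain ⟨T', h0⟩ := hker _ t (by rw [← hvu, hs, map_zero])
    rw [← imgH_trans (le_sup_left : T ≤ T ⊔ T')]
    have hle : V ⊓ (T ⊔ T').U ≤ V ⊓ T.U ⊓ T'.U := by rw [sup_U, inf_assoc]
    have e := congrArg (res F hle) h0
    rw [res_res, map_zero] at e
    rw [e, map_zero]
  have hsurj : ∀ V : X.Opens, IsCompact (V : Set X) → Function.Surjective (v.app V) := by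
    intro V hV f
    classical
    -- near every point off `Z` the section comes from `F`
    have hloc : ∀ x : {x : X // x ∈ V ∧ x ∉ Z}, ∃ (W : X.Opens) (hW : W ≤ V) (t : Γ(F, W)),
        x.1 ∈ W ∧ u.app W t = res F' hW f := by
      rintro ⟨x, hx, hxZ⟩
      obtain ⟨z, hz⟩ := (hu x hxZ).2 (F'.presheaf.germ V x hx f)
      obtain ⟨W, hxW, t, rfl⟩ := Groth.CohTwo.stalk_exists_germ F x z
      rw [stalkLin_germ] at hz
      obtain ⟨W', hxW', i₁, i₂, e⟩ := F'.presheaf.germ_eq x hxW hx _ _ hz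
      exact ⟨W', i₂.le, res F i₁.le t, hxW', (app_res u i₁.le t).trans e⟩
    choose W hW t hxW ht using hloc
    have hO : IsCompact ((iSup W : X.Opens) : Set X) := isCompact_of_le hV (iSup_le hW)
    obtain ⟨S, hS⟩ := hO.elim_finite_subcover (fun x => (W x : Set X)) (fun x => (W x).isOpen)
      (fun y hy => by
        obtain ⟨i, hi⟩ := Opens.mem_iSup.1 hy
        exact Set.mem_iUnion.2 ⟨i, hi⟩)
    let T₀ : Cl Z := ⟨⟨closure ((V : Set X) \ (iSup W : X.Opens)), isClosed_closure⟩,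
      closure_subset_of_stable hZ V.isOpen (fun y hy => hy.1) (fun y hy => ⟨hy.2, fun hyO => by
          obtain ⟨z, hzO, hz⟩ := mem_closure_iff.mp hy.1 _ (iSup W).isOpen hyO
          exact hz.2 hzO⟩)
        fun y hy => by_contra fun hyZ => hy.2 (Opens.mem_iSup.2 ⟨⟨y, hy.1, hyZ⟩, hxW _⟩)⟩
    have hcomp : ∀ p : S × S, ∃ T : Cl Z, res F (inf_le_left.trans inf_le_left : W p.1.1 ⊓ W p.2.1 ⊓ T.U ≤ W p.1.1) (t p.1.1) =
        res F (inf_le_left.trans inf_le_right : W p.1.1 ⊓ W p.2.1 ⊓ T.U ≤ W p.2.1) (t p.2.1) := by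
      intro p
      obtain ⟨T, hT⟩ := hker (W p.1.1 ⊓ W p.2.1)
        (res F inf_le_left (t p.1.1) - res F inf_le_right (t p.2.1))
        (by rw [map_sub, app_res, app_res, ht, ht, res_res, res_res, sub_self])
      refine ⟨T, ?_⟩
      rwa [map_sub, res_res, res_res, sub_eq_zero] at hT
    choose T' heq using hcomp
    obtain ⟨U, hU₀, hU⟩ := exists_upper T₀ T'
    obtain ⟨g, hg⟩ := exists_glue F (W := V ⊓ U.U) (ι := ↥S) (fun i => W i.1 ⊓ U.U)
      (fun i => inf_le_inf_right _ (hW i.1))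
      (fun y hy => by
        have hyO : y ∈ ((iSup W : X.Opens) : Set X) :=
          by_contra fun hyO => Cl.U_anti hU₀ hy.2 (subset_closure ⟨hy.1, hyO⟩)
        obtain ⟨x, hx, hyx⟩ := Set.mem_iUnion₂.1 (hS hyO)
        exact ⟨⟨x, hx⟩, hyx, hy.2⟩)
      (fun i => res F inf_le_left (t i.1)) (fun i j => by
        rw [res_res, res_res]
        have hle : W i.1 ⊓ U.U ⊓ (W j.1 ⊓ U.U) ≤ W i.1 ⊓ W j.1 ⊓ (T' (i, j)).U :=
          le_inf (inf_le_inf inf_le_left inf_le_left)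
            (inf_le_left.trans (inf_le_right.trans (Cl.U_anti (hU (i, j)))))
        have := congrArg (res F hle) (heq (i, j))
        rwa [res_res, res_res] at this)
    refine ⟨imgH Z F U V g, hinjF' U V ?_⟩
    rw [hvu]
    refine eq_of_local F' _ _ fun y hy => ?_
    have hyO : y ∈ ((iSup W : X.Opens) : Set X) :=
      by_contra fun hyO => Cl.U_anti hU₀ hy.2 (subset_closure ⟨hy.1, hyO⟩)
    obtain ⟨x, hx, hyx⟩ := Set.mem_iUnion₂.1 (hS hyO)
    refine ⟨W x ⊓ U.U, inf_le_inf_right _ (hW x), ⟨hyx, hy.2⟩, ?_⟩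
    rw [← app_res, hg ⟨x, hx⟩, app_res, ht, res_res, res_res]
  refine isIso_of_app_bijective v fun V => ?_
  choose A hA hxA hAV using fun x : {x : X // x ∈ V} => exists_affine_le x.2
  have hinjV : ∀ W : X.Opens, Function.Injective (v.app W) := fun W =>
    (injective_iff_map_eq_zero _).2 fun s hs => eq_of_local _ _ _ fun x hx => by
      obtain ⟨B, hB, hxB, hBW⟩ := exists_affine_le hx
      refine ⟨B, hBW, hxB, hinj B hB.isCompact ?_⟩
      rw [map_zero, map_zero, app_res, hs, map_zero]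
  refine ⟨hinjV V, fun f => ?_⟩
  choose a ha using fun x => hsurj (A x) (hA x).isCompact (res F' (hAV x) f)
  obtain ⟨g, hg⟩ := exists_glue _ (W := V) (ι := {x : X // x ∈ V}) A hAV
    (fun x hx => ⟨⟨x, hx⟩, hxA _⟩) a fun i j => hinjV _ (by
      rw [app_res, app_res, ha, ha, res_res, res_res])
  refine ⟨g, eq_of_local _ _ _ fun x hx => ⟨A ⟨x, hx⟩, hAV _, hxA _, ?_⟩⟩
  rw [← app_res, hg, ha]

end Fac

omit [IsLocallyNoetherian X] in
theorem subsingleton_of_isZero {M : X.Modules} (h : IsZero M) (V : X.Opens) : Subsingleton Γ(M, V) :=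
  ⟨fun a b => by
    have h0 : (𝟙 M : M ⟶ M) = 0 := h.eq_of_src _ _
    have ha := congr($(congrArg (fun φ => Scheme.Modules.Hom.app φ V) h0) a)
    have hb := congr($(congrArg (fun φ => Scheme.Modules.Hom.app φ V) h0) b)
    exact ha.trans hb.symm⟩

omit [IsLocallyNoetherian X] in
theorem subsingleton_stalk_of_isZero {M : X.Modules} (h : IsZero M) (x : X) :
    Subsingleton (M.presheaf.stalk x) := by
  have : ∀ z : M.presheaf.stalk x, z = 0 := fun z => by
    obtain ⟨V, hx, s, rfl⟩ := Groth.CohTwo.stalk_exists_germ M x z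
    rw [(subsingleton_of_isZero h V).elim s 0, map_zero]
  exact ⟨fun a b => (this a).trans (this b).symm⟩

theorem isZero_H0_iff (hZ : StableUnderSpecialization Z) :
    IsZero ((H0 Z).obj F) ↔ ∀ x : X, x ∉ Z → Subsingleton (F.presheaf.stalk x) := by
  constructor
  · intro h x hx
    have := subsingleton_stalk_of_isZero h x
    exact (isZClosedAt_of_not_mem (F := F) hx).1.subsingleton
  · intro h
    obtain ⟨O, hO⟩ := (inferInstance : HasZeroObject X.Modules)
    have hcl : IsZClosed Z O := (isZClosed_iff_res_bijective Z O).2 fun T V =>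
      ⟨fun a b _ => (subsingleton_of_isZero hO V).elim a b,
        fun b => ⟨0, (subsingleton_of_isZero hO _).elim _ _⟩⟩
    obtain ⟨v, hv, -⟩ := existsUnique_fac hcl (0 : F ⟶ O)
    have := isIso_fac hcl hZ (0 : F ⟶ O) (fun x hx =>
      have := h x hx
      have := subsingleton_stalk_of_isZero hO x
      ⟨fun a b _ => Subsingleton.elim a b, fun b => ⟨0, Subsingleton.elim _ _⟩⟩) v hv
    exact hO.of_iso (asIso v)

section Cover

variable (V : X.Opens)

omit [IsLocallyNoetherian X] in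
theorem image_inf_U {T' : Cl (V.ι.base ⁻¹' Z)} {T : Cl Z}
    (hT : ∀ y : (V : Scheme.{u}), y ∈ (T'.1 : Set (V : Scheme.{u})) ↔ y.1 ∈ (T.1 : Set X))
    (W : (V : Scheme.{u}).Opens) : V.ι ''ᵁ (W ⊓ T'.U) = V.ι ''ᵁ W ⊓ T.U := by
  ext x
  constructor
  · rintro ⟨y, ⟨hyW, hyT⟩, rfl⟩
    exact ⟨⟨y, hyW, rfl⟩, fun h => hyT ((hT y).2 h)⟩
  · rintro ⟨⟨y, hyW, rfl⟩, hxT⟩
    exact ⟨y, ⟨hyW, fun h => hxT ((hT y).1 h)⟩, rfl⟩

/-- The trace of a member of the index on an open. -/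
noncomputable def clPre (T : Cl Z) : Cl (V.ι.base ⁻¹' Z) :=
  ⟨⟨V.ι.base ⁻¹' (T.1 : Set X), T.1.isClosed.preimage V.ι.continuous⟩,
    Set.preimage_mono T.2⟩

theorem exists_cl_image (hZ : StableUnderSpecialization Z) (T' : Cl (V.ι.base ⁻¹' Z)) :
    ∃ T : Cl Z, ∀ y : (V : Scheme.{u}), y ∈ (T'.1 : Set (V : Scheme.{u})) ↔ y.1 ∈ (T.1 : Set X) := by
  have hloc : ∀ y : (V : Scheme.{u}), y.1 ∈ closure (V.ι.base '' (T'.1 : Set (V : Scheme.{u}))) →
      y ∈ (T'.1 : Set (V : Scheme.{u})) := fun y hy => by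
    have : y ∈ closure (T'.1 : Set (V : Scheme.{u})) := by
      rw [V.ι.isOpenEmbedding.isInducing.closure_eq_preimage_closure_image]
      exact hy
    rwa [T'.1.isClosed.closure_eq] at this
  refine ⟨⟨⟨closure (V.ι.base '' (T'.1 : Set (V : Scheme.{u}))), isClosed_closure⟩,
    closure_subset_of_stable hZ V.isOpen ?_ ?_ ?_⟩, fun y => ⟨fun h => subset_closure ⟨y, h, rfl⟩, hloc y⟩⟩
  · rintro _ ⟨y, -, rfl⟩
    exact y.2
  · rintro z ⟨hz, hzV⟩
    exact ⟨⟨z, hzV⟩, hloc ⟨z, hzV⟩ hz, rfl⟩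
  · rintro _ ⟨y, hy, rfl⟩
    exact T'.2 hy

omit [IsLocallyNoetherian X] in
theorem res_restrict_injective_iff (T' : Cl (V.ι.base ⁻¹' Z)) (T : Cl Z)
    (hT : ∀ y : (V : Scheme.{u}), y ∈ (T'.1 : Set (V : Scheme.{u})) ↔ y.1 ∈ (T.1 : Set X))
    (W : (V : Scheme.{u}).Opens) :
    (Function.Injective (res ((Scheme.Modules.restrictFunctor V.ι).obj F) (inf_le_left : W ⊓ T'.U ≤ W)) ↔
      Function.Injective (res F (inf_le_left : V.ι ''ᵁ W ⊓ T.U ≤ V.ι ''ᵁ W))) ∧
    (Function.Bijective (res ((Scheme.Modules.restrictFunctor V.ι).obj F) (inf_le_left : W ⊓ T'.U ≤ W)) ↔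
      Function.Bijective (res F (inf_le_left : V.ι ''ᵁ W ⊓ T.U ≤ V.ι ''ᵁ W))) := by
  have e := image_inf_U (Z := Z) V hT W
  have h : (res ((Scheme.Modules.restrictFunctor V.ι).obj F) (inf_le_left : W ⊓ T'.U ≤ W) : _ → _) =
      (res F e.le : _ → _) ∘ res F (inf_le_left : V.ι ''ᵁ W ⊓ T.U ≤ V.ι ''ᵁ W) := by
    funext s
    refine Eq.trans ?_ (res_res F e.le (inf_le_left : V.ι ''ᵁ W ⊓ T.U ≤ V.ι ''ᵁ W) s).symm
    rfl
  exact ⟨h ▸ (res_eq_bijective F e.le e.ge).1.of_comp_iff _,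
    h ▸ (res_eq_bijective F e.le e.ge).of_comp_iff' _⟩

theorem isZPure_and_isZClosed_restrict (hZ : StableUnderSpecialization Z) :
    (IsZPure Z F → IsZPure (V.ι.base ⁻¹' Z) ((Scheme.Modules.restrictFunctor V.ι).obj F)) ∧
    (IsZClosed Z F → IsZClosed (V.ι.base ⁻¹' Z) ((Scheme.Modules.restrictFunctor V.ι).obj F)) := by
  rw [isZPure_iff_res_injective, isZPure_iff_res_injective, isZClosed_iff_res_bijective,
    isZClosed_iff_res_bijective]
  refine ⟨fun h T' W => ?_, fun h T' W => ?_⟩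
  all_goals obtain ⟨T, hT⟩ := exists_cl_image V hZ T'
  · exact (res_restrict_injective_iff V T' T hT W).1.2 (h T _)
  · exact (res_restrict_injective_iff V T' T hT W).2.2 (h T _)

end Cover

variable {ι : Type u} (V : ι → X.Opens) (hV : iSup V = ⊤)

include hV

theorem isZPure_iff_cover (hZ : StableUnderSpecialization Z) :
    IsZPure Z F ↔ ∀ i, IsZPure ((V i).ι.base ⁻¹' Z) ((Scheme.Modules.restrictFunctor (V i).ι).obj F) := by
  refine ⟨fun h i => (isZPure_and_isZClosed_restrict (V i) hZ).1 h, fun h => ?_⟩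
  simp only [isZPure_iff_res_injective] at h ⊢
  refine fun T W => (injective_iff_map_eq_zero _).2 fun s hs => eq_of_local F _ _ fun x hx => ?_
  obtain ⟨i, hi⟩ := Opens.mem_iSup.1 (hV.ge (Set.mem_univ x) : x ∈ iSup V)
  have hle : (V i).ι ''ᵁ (V i).ι ⁻¹ᵁ W ≤ W := (V i).ι.image_preimage_le W
  refine ⟨_, hle, ⟨⟨x, hi⟩, hx, rfl⟩, ?_⟩
  refine ((res_restrict_injective_iff (V i) (clPre (V i) T) T (fun y => Iff.rfl) _).1.1
    (h i (clPre (V i) T) _)) ?_
  have e := congrArg (res F (inf_le_inf_right T.U hle)) hs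
  rw [res_res, map_zero] at e
  rw [map_zero, map_zero, res_res]
  exact e

theorem isZClosed_iff_cover (hZ : StableUnderSpecialization Z) :
    IsZClosed Z F ↔
      ∀ i, IsZClosed ((V i).ι.base ⁻¹' Z) ((Scheme.Modules.restrictFunctor (V i).ι).obj F) := by
  refine ⟨fun h i => (isZPure_and_isZClosed_restrict (V i) hZ).2 h, fun h => ?_⟩
  have hinj := (isZPure_iff_res_injective Z F).1
    ((isZPure_iff_cover V hV hZ).2 fun i => isZPure_of_isZClosed (h i))
  simp only [isZClosed_iff_res_bijective] at h ⊢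
  refine fun T W => ⟨hinj T W, fun t => ?_⟩
  let P : ι → X.Opens := fun i => (V i).ι ''ᵁ (V i).ι ⁻¹ᵁ W
  have hle : ∀ i, P i ≤ W := fun i => (V i).ι.image_preimage_le W
  choose a ha using fun i => ((res_restrict_injective_iff (V i) (clPre (V i) T) T (fun y => Iff.rfl)
    ((V i).ι ⁻¹ᵁ W)).2.1 (h i (clPre (V i) T) _)).2 (res F (inf_le_inf_right T.U (hle i)) t)
  obtain ⟨g, hg⟩ := exists_glue F (W := W) (ι := ι) P hle (fun x hx => by
      obtain ⟨i, hi⟩ := Opens.mem_iSup.1 (hV.ge (Set.mem_univ x) : x ∈ iSup V)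
      exact ⟨i, ⟨x, hi⟩, hx, rfl⟩) a fun i j => hinj T _ (by
    have e1 := congrArg (res F (inf_le_inf_right T.U (inf_le_left : P i ⊓ P j ≤ P i))) (ha i)
    have e2 := congrArg (res F (inf_le_inf_right T.U (inf_le_right : P i ⊓ P j ≤ P j))) (ha j)
    rw [res_res, res_res] at e1 e2
    rw [res_res, res_res]
    exact e1.trans e2.symm)
  refine ⟨g, eq_of_local F _ _ fun x hx => ?_⟩
  obtain ⟨i, hi⟩ := Opens.mem_iSup.1 (hV.ge (Set.mem_univ x) : x ∈ iSup V)
  refine ⟨P i ⊓ T.U, inf_le_inf_right _ (hle i), ⟨⟨⟨x, hi⟩, hx.1, rfl⟩, hx.2⟩, ?_⟩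
  refine Eq.trans ?_ (ha i)
  rw [← hg i, res_res, res_res]

end Groth.ZClosAux
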