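import Groth.Agent.SchemeMorphisms.ZClos.QCoh
import Groth.Agent.QCohMod.PullbackSections
import Groth.Agent.QCohMod.FTCriterion
import Groth.Agent.QCohMod.FiniteType
import Mathlib.RingTheory.Flat.FaithfullyFlat.Basic

/-!
The Z-closure commutes with flat inverse images.
-/

universe u

open CategoryTheory CategoryTheory.Limits AlgebraicGeometry TopologicalSpace Opposite TensorProduct

set_option backward.isDefEq.respectTransparency false
set_option maxHeartbeats 800000

namespace Groth.ZClosAux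

open ZClos
open Groth.CohTwo (res res_rfl res_res app_res eq_of_local exists_glue app_injective stalkLin stalkLin_germ)

section Algebra

variable {A B N : Type u} [CommRing A] [CommRing B] [Algebra A B] [Module.Flat A B] [AddCommGroup N]
  [Module A N] {ι : Type u} [Fintype ι] (a : ι → A)

/-- The exact sequence of a family of multipliers survives a flat base change. -/
theorem family_tensor (h0 : ∀ x : N, (∀ i, a i • x = 0) → x = 0)
    (h : ∀ m : ι → N, (∀ i j, a j • m i = a i • m j) → ∃ x, ∀ i, a i • x = m i) :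
    (∀ x : B ⊗[A] N, (∀ i, a i • x = 0) → x = 0) ∧
      ∀ z : ι → B ⊗[A] N, (∀ i j, a j • z i = a i • z j) → ∃ x, ∀ i, a i • x = z i := by
  classical
  let α : N →ₗ[A] (ι → N) := LinearMap.pi fun i => a i • LinearMap.id
  let β : (ι → N) →ₗ[A] (ι × ι → N) :=
    LinearMap.pi fun p => a p.2 • LinearMap.proj p.1 - a p.1 • LinearMap.proj p.2
  have hinj : Function.Injective α := (injective_iff_map_eq_zero α).2 fun x hx =>
    h0 x fun i => congrFun hx i
  have hex : Function.Exact α β := fun m => by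
    constructor
    · intro hm
      obtain ⟨x, hx⟩ := h m fun i j => sub_eq_zero.mp (congrFun hm (i, j))
      exact ⟨x, funext hx⟩
    · rintro ⟨x, rfl⟩
      funext p
      simp [α, β, smul_comm (a p.1) (a p.2)]
  let e₁ := TensorProduct.piRight A A B fun _ : ι => N
  let e₂ := TensorProduct.piRight A A B fun _ : ι × ι => N
  have he₁ : ∀ z i, e₁ (α.lTensor B z) i = a i • z := fun z i => by
    induction z using TensorProduct.induction_on with
    | zero => simp
    | tmul b x => simp [e₁, α]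
    | add x y hx hy => simp [map_add, hx, hy, smul_add]
  have he₂ : ∀ w i j, e₂ (β.lTensor B w) (i, j) = a j • e₁ w i - a i • e₁ w j := fun w i j => by
    induction w using TensorProduct.induction_on with
    | zero => simp
    | tmul b x => simp [e₁, e₂, β, tmul_sub]
    | add x y hx hy => simp [map_add, hx, hy, smul_add]; abel
  refine ⟨fun x hx => Module.Flat.lTensor_preserves_injective_linearMap (M := B) α hinj
    (e₁.injective (funext fun i => by rw [he₁, hx i, map_zero, map_zero, Pi.zero_apply])), fun z hz => ?_⟩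
  obtain ⟨w, rfl⟩ := e₁.surjective z
  obtain ⟨x, hx⟩ := (Module.Flat.lTensor_exact B hex w).mp (e₂.injective (funext fun p => by
    rw [he₂, hz p.1 p.2, sub_self, map_zero, Pi.zero_apply]))
  exact ⟨x, fun i => by rw [← he₁, hx]⟩

theorem family_equiv {N' : Type u} [AddCommGroup N'] [Module B N'] (e : B ⊗[A] N ≃ₗ[B] N')
    (h0 : ∀ x : N, (∀ i, a i • x = 0) → x = 0)
    (h : ∀ m : ι → N, (∀ i j, a j • m i = a i • m j) → ∃ x, ∀ i, a i • x = m i) :
    (∀ x : N', (∀ i, algebraMap A B (a i) • x = 0) → x = 0) ∧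
      ∀ z : ι → N', (∀ i j, algebraMap A B (a j) • z i = algebraMap A B (a i) • z j) →
        ∃ x, ∀ i, algebraMap A B (a i) • x = z i := by
  obtain ⟨t0, t⟩ := family_tensor (B := B) a h0 h
  refine ⟨fun x hx => ?_, fun z hz => ?_⟩
  · refine e.symm.map_eq_zero_iff.mp (t0 _ fun i => ?_)
    rw [← algebraMap_smul B, ← map_smul, hx i, map_zero]
  · obtain ⟨x, hx⟩ := t (fun i => e.symm (z i)) fun i j => by
      rw [← algebraMap_smul B, ← map_smul, hz i j, map_smul, algebraMap_smul]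
    exact ⟨e x, fun i => by rw [← map_smul, algebraMap_smul, hx i, e.apply_symm_apply]⟩

end Algebra

section Local

variable {X : Scheme.{u}} {M : X.Modules}

theorem local_injective {O : X.Opens}
    (h : ∀ (V : X.Opens) (x : X), x ∈ V →
      ∃ A ≤ V, x ∈ A ∧ Function.Injective (res M (inf_le_left : A ⊓ O ≤ A)))
    (V : X.Opens) : Function.Injective (res M (inf_le_left : V ⊓ O ≤ V)) := by
  refine (injective_iff_map_eq_zero _).2 fun s hs => eq_of_local M _ _ fun x hx => ?_
  obtain ⟨A, hAV, hxA, hA⟩ := h V x hx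
  refine ⟨A, hAV, hxA, hA ?_⟩
  have := congrArg (res M (inf_le_inf_right O hAV)) hs
  rw [res_res, map_zero] at this
  rw [map_zero, map_zero, res_res]
  exact this

theorem local_bijective {O : X.Opens}
    (h : ∀ (V : X.Opens) (x : X), x ∈ V →
      ∃ A ≤ V, x ∈ A ∧ Function.Bijective (res M (inf_le_left : A ⊓ O ≤ A)))
    (V : X.Opens) : Function.Bijective (res M (inf_le_left : V ⊓ O ≤ V)) := by
  have hinj : ∀ W : X.Opens, Function.Injective (res M (inf_le_left : W ⊓ O ≤ W)) :=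
    local_injective fun V x hx => (h V x hx).imp fun A hA => ⟨hA.1, hA.2.1, hA.2.2.1⟩
  refine ⟨hinj V, fun t => ?_⟩
  choose A hAV hxA hA using fun x : {x : X // x ∈ V} => h V x x.2
  choose a ha using fun x => (hA x).2 (res M (inf_le_inf_right O (hAV x)) t)
  obtain ⟨g, hg⟩ := exists_glue M (W := V) (ι := {x : X // x ∈ V}) A hAV
    (fun x hx => ⟨⟨x, hx⟩, hxA _⟩) a fun i j => hinj _ (by
      have e1 := congrArg (res M (inf_le_inf_right O (inf_le_left : A i ⊓ A j ≤ A i))) (ha i)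
      have e2 := congrArg (res M (inf_le_inf_right O (inf_le_right : A i ⊓ A j ≤ A j))) (ha j)
      rw [res_res, res_res] at e1 e2
      rw [res_res, res_res, e1, e2])
  refine ⟨g, eq_of_local M _ _ fun x hx => ?_⟩
  refine ⟨A ⟨x, hx.1⟩ ⊓ O, inf_le_inf_right _ (hAV _), ⟨hxA _, hx.2⟩, ?_⟩
  rw [← ha, res_res, ← hg ⟨x, hx.1⟩, res_res]

end Local

section Affine

open Groth.QCohMod (res_smul exists_pow_smul_eq_res exists_pow_smul_eq_zero)

variable {X : Scheme.{u}} (M : X.Modules) [M.IsQuasicoherent] {W : X.Opens} (hW : IsAffineOpen W)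
  {O : X.Opens} {ι : Type u} (g : ι → Γ(X, W))
  (hle : ∀ i, X.basicOpen (g i) ≤ W ⊓ O) (hcov : ∀ x ∈ W ⊓ O, ∃ i, x ∈ X.basicOpen (g i))

omit [M.IsQuasicoherent] in
theorem res_smul_cancel {V : X.Opens} (h : V ≤ W) (c : Γ(X, W)) (hc : V ≤ X.basicOpen c) (n : ℕ)
    {a b : Γ(M, V)} (e : Groth.QCohMod.resFun X h c ^ n • a = Groth.QCohMod.resFun X h c ^ n • b) :
    a = b := by
  have hu : IsUnit (Groth.QCohMod.resFun X h c ^ n) := by
    refine IsUnit.pow n ?_
    rw [← Groth.QCohMod.resFun_resFun (X.basicOpen_le c) hc]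
    exact (RingedSpace.isUnit_res_basicOpen _ c).map _
  exact hu.smul_left_cancel.mp e

include hle in
omit [M.IsQuasicoherent] in
theorem family_of_bijective
    (hb : Function.Bijective (res M (inf_le_left : W ⊓ O ≤ W))) (hcov : ∀ x ∈ W ⊓ O, ∃ i, x ∈ X.basicOpen (g i))
    (n : ℕ) :
    (∀ x : Γ(M, W), (∀ i, g i ^ n • x = 0) → x = 0) ∧
      ∀ m : ι → Γ(M, W), (∀ i j, g j ^ n • m i = g i ^ n • m j) → ∃ x, ∀ i, g i ^ n • x = m i := by
  have hi : ∀ i, X.basicOpen (g i) ≤ W := fun i => X.basicOpen_le _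
  let u : ∀ i, Γ(X, X.basicOpen (g i)) := fun i => Groth.QCohMod.resFun X (hi i) (g i) ^ n
  have hu : ∀ i, IsUnit (u i) := fun i => IsUnit.pow n (RingedSpace.isUnit_res_basicOpen _ _)
  have hinj : ∀ x : Γ(M, W), (∀ i, res M (hi i) x = 0) → x = 0 := fun x hx => by
    refine hb.1 ?_
    rw [map_zero]
    refine eq_of_local M _ _ fun y hy => ?_
    obtain ⟨i, hyi⟩ := hcov y hy
    exact ⟨_, hle i, hyi, by rw [res_res, map_zero]; exact hx i⟩
  refine ⟨fun x hx => hinj x fun i => (hu i).smul_left_cancel.mp ?_, fun m hm => ?_⟩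
  · rw [smul_zero]
    have := congrArg (Groth.QCohMod.res M (hi i)) (hx i)
    rw [res_smul, map_zero, map_pow] at this
    exact this
  · let t : ∀ i, Γ(M, X.basicOpen (g i)) := fun i => (↑(hu i).unit⁻¹ : Γ(X, X.basicOpen (g i))) • res M (hi i) (m i)
    have ht : ∀ i, u i • t i = res M (hi i) (m i) := fun i => by
      rw [smul_smul, IsUnit.mul_val_inv, one_smul]
    obtain ⟨s, hs⟩ := exists_glue M (W := W ⊓ O) (ι := ι) (fun i => X.basicOpen (g i)) hle
      (fun x hx => hcov x hx) t fun i j => by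
      let r₁ : X.basicOpen (g i) ⊓ X.basicOpen (g j) ≤ X.basicOpen (g i) := inf_le_left
      let r₂ : X.basicOpen (g i) ⊓ X.basicOpen (g j) ≤ X.basicOpen (g j) := inf_le_right
      refine res_smul_cancel M (r₁.trans (hi i)) (g i) r₁ n (res_smul_cancel M (r₂.trans (hi j)) (g j) r₂ n ?_)
      have e1 := congrArg (Groth.QCohMod.res M r₁) (ht i)
      have e2 := congrArg (Groth.QCohMod.res M r₂) (ht j)
      simp only [u, res_smul, map_pow, Groth.QCohMod.resFun_resFun] at e1 e2
      have e3 := congrArg (Groth.QCohMod.res M (r₁.trans (hi i))) (hm i j)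
      simp only [res_smul, map_pow] at e3
      change _ • _ • Groth.QCohMod.res M r₁ (t i) = _ • _ • Groth.QCohMod.res M r₂ (t j)
      rw [e1, smul_comm, e2]
      change _ • Groth.QCohMod.res M r₁ (Groth.QCohMod.res M (hi i) (m i)) =
        _ • Groth.QCohMod.res M r₂ (Groth.QCohMod.res M (hi j) (m j))
      rw [Groth.QCohMod.res_res, Groth.QCohMod.res_res]
      exact e3
    obtain ⟨x, hx⟩ := hb.2 s
    refine ⟨x, fun i => sub_eq_zero.mp (hinj _ fun j => ?_)⟩
    have e : res M (hi j) x = t j := by rw [← hs j, ← hx, res_res]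
    refine (hu j).smul_left_cancel.mp ?_
    rw [smul_zero]
    have e1 : g j ^ n • (g i ^ n • x - m i) = g i ^ n • (g j ^ n • x - m j) := by
      rw [smul_sub, smul_sub, hm i j, smul_comm]
    have e2 := congrArg (Groth.QCohMod.res M (hi j)) e1
    simp only [res_smul, map_pow, map_sub] at e2
    rw [map_sub, show res M (hi j) (g i ^ n • x) =
      Groth.QCohMod.resFun X (hi j) (g i) ^ n • res M (hi j) x by
        rw [← map_pow]; exact res_smul M (hi j) _ x]
    refine e2.trans ?_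
    change _ • (u j • res M (hi j) x - res M (hi j) (m j)) = 0
    rw [e, ht j, sub_self, smul_zero]

include hW hle in
theorem bijective_of_family [Finite ι] (hcov : ∀ x ∈ W ⊓ O, ∃ i, x ∈ X.basicOpen (g i))
    (h : ∀ n : ℕ, (∀ x : Γ(M, W), (∀ i, g i ^ n • x = 0) → x = 0) ∧
      ∀ m : ι → Γ(M, W), (∀ i j, g j ^ n • m i = g i ^ n • m j) → ∃ x, ∀ i, g i ^ n • x = m i) :
    Function.Bijective (res M (inf_le_left : W ⊓ O ≤ W)) := by
  classical
  have := Fintype.ofFinite ι
  have hi : ∀ i, X.basicOpen (g i) ≤ W := fun i => X.basicOpen_le _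
  refine ⟨(injective_iff_map_eq_zero _).2 fun x hx => ?_, fun s => ?_⟩
  · have h1 : ∀ i, ∃ n, g i ^ n • x = 0 := fun i => exists_pow_smul_eq_zero M hW (g i) x (by
      have := congrArg (res M (hle i)) hx
      rw [res_res, map_zero] at this
      exact this)
    choose n hn using h1
    obtain ⟨N, hN⟩ := Finite.exists_le n
    refine (h N).1 x fun i => ?_
    obtain ⟨d, hd⟩ := Nat.exists_eq_add_of_le (hN i)
    rw [hd, add_comm, pow_add, mul_smul, hn i, smul_zero]
  · have h1 : ∀ i, ∃ (n : ℕ) (z : Γ(M, W)), Groth.QCohMod.res M (hi i) z =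
        Groth.QCohMod.resFun X (hi i) (g i) ^ n • Groth.QCohMod.res M (hle i) s :=
      fun i => exists_pow_smul_eq_res M hW (g i) _
    choose n z hz using h1
    obtain ⟨N, hN⟩ := Finite.exists_le n
    let z' : ι → Γ(M, W) := fun i => g i ^ (N - n i) • z i
    have hz' : ∀ i, Groth.QCohMod.res M (hi i) (z' i) =
        Groth.QCohMod.resFun X (hi i) (g i) ^ N • Groth.QCohMod.res M (hle i) s := fun i => by
      rw [res_smul, hz, map_pow, smul_smul, ← pow_add, Nat.sub_add_cancel (hN i)]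
    have h2 : ∀ p : ι × ι, ∃ m, (g p.1 * g p.2) ^ m • (g p.2 ^ N • z' p.1 - g p.1 ^ N • z' p.2) = 0 :=
      fun p => exists_pow_smul_eq_zero M hW _ _ (by
        have hb := X.basicOpen_mul (g p.1) (g p.2)
        have r₁ : X.basicOpen (g p.1 * g p.2) ≤ X.basicOpen (g p.1) := hb.le.trans inf_le_left
        have r₂ : X.basicOpen (g p.1 * g p.2) ≤ X.basicOpen (g p.2) := hb.le.trans inf_le_right
        have e1 := congrArg (Groth.QCohMod.res M r₁) (hz' p.1)
        have e2 := congrArg (Groth.QCohMod.res M r₂) (hz' p.2)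
        simp only [res_smul, map_pow, Groth.QCohMod.res_res, Groth.QCohMod.resFun_resFun] at e1 e2
        rw [map_sub, res_smul M _ _ (z' p.1), res_smul M _ _ (z' p.2), map_pow, map_pow, e1, e2, smul_comm, sub_self])
    choose m hm using h2
    obtain ⟨K, hK⟩ := Finite.exists_le m
    obtain ⟨x, hx⟩ := (h (N + K)).2 (fun i => g i ^ K • z' i) fun i j => by
      have e : (g i * g j) ^ K • (g j ^ N • z' i - g i ^ N • z' j) = 0 := by
        obtain ⟨d, hd⟩ := Nat.exists_eq_add_of_le (hK (i, j))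
        rw [hd, add_comm, pow_add, mul_smul, hm (i, j), smul_zero]
      rw [smul_sub, sub_eq_zero] at e
      generalize z' i = u, z' j = v at e ⊢
      rw [smul_smul, smul_smul] at e
      rw [smul_smul, smul_smul]
      calc (g j ^ (N + K) * g i ^ K) • u = ((g i * g j) ^ K * g j ^ N) • u := by
            rw [pow_add, mul_pow]; ring_nf
        _ = _ := e
        _ = _ := by rw [pow_add, mul_pow]; ring_nf
    refine ⟨x, eq_of_local M _ _ fun y hy => ?_⟩
    obtain ⟨i, hyi⟩ := hcov y hy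
    refine ⟨_, hle i, hyi, res_smul_cancel M (hi i) (g i) le_rfl (N + K) ?_⟩
    have e := congrArg (Groth.QCohMod.res M (hi i)) (hx i)
    rw [res_smul, res_smul, map_pow, map_pow, hz' i, smul_smul, ← pow_add, add_comm K N] at e
    rw [res_res]
    exact e

end Affine

section Pullback

variable {X X' : Scheme.{u}} (f : X' ⟶ X) [Flat f] (M : X.Modules) [M.IsQuasicoherent]

theorem res_pullback_bijective {W : X.Opens} (hW : IsAffineOpen W) {V : X'.Opens} (hV : IsAffineOpen V)
    (e : V ≤ f ⁻¹ᵁ W) {O : X.Opens} (hO : IsCompact ((W ⊓ O : X.Opens) : Set X))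
    (hb : Function.Bijective (res M (inf_le_left : W ⊓ O ≤ W))) :
    Function.Bijective (res ((Scheme.Modules.pullback f).obj M) (inf_le_left : V ⊓ f ⁻¹ᵁ O ≤ V)) := by
  classical
  have hex : ∀ x : {x : X // x ∈ W ⊓ O}, ∃ g : Γ(X, W), X.basicOpen g ≤ W ⊓ O ∧ x.1 ∈ X.basicOpen g :=
    fun x => hW.exists_basicOpen_le ⟨x.1, x.2⟩ x.2.1
  choose g hgle hxg using hex
  obtain ⟨S, hS⟩ := hO.elim_finite_subcover (fun x => (X.basicOpen (g x) : Set X))
    (fun x => (X.basicOpen (g x)).isOpen) (fun x hx => Set.mem_iUnion.2 ⟨⟨x, hx⟩, hxg _⟩)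
  let a : S → Γ(X, W) := fun i => g i.1
  have hcov : ∀ x ∈ W ⊓ O, ∃ i, x ∈ X.basicOpen (a i) := fun x hx => by
    obtain ⟨i, hi, hxi⟩ := Set.mem_iUnion₂.1 (hS hx)
    exact ⟨⟨i, hi⟩, hxi⟩
  letI := Groth.QCohMod.sectionsAlg f e
  haveI : Module.Flat Γ(X, W) Γ(X', V) := f.flat_appLE hW hV e
  have hfam := family_of_bijective M a (fun i => hgle _) hb hcov
  have hbo : ∀ c : Γ(X, W), X'.basicOpen (f.appLE W V e c) = V ⊓ f ⁻¹ᵁ X.basicOpen c := fun c => by
    rw [Scheme.Hom.appLE, CommRingCat.comp_apply, Scheme.basicOpen_res, Scheme.preimage_basicOpen]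
  refine bijective_of_family ((Scheme.Modules.pullback f).obj M) hV (fun i => f.appLE W V e (a i))
    (fun i => ?_) (fun x hx => ?_) fun n => ?_
  · rw [hbo]
    exact inf_le_inf le_rfl (f.preimage_mono ((hgle _).trans inf_le_right))
  · obtain ⟨i, hi⟩ := hcov (f x) ⟨e hx.1, hx.2⟩
    exact ⟨i, by rw [hbo]; exact ⟨hx.1, hi⟩⟩
  · have := family_equiv (B := Γ(X', V)) (fun i => a i ^ n)
      (Groth.QCohMod.pullSecEquiv f M e hW hV) (hfam n).1 (hfam n).2
    refine ⟨fun x hx => this.1 x fun i => ?_, fun m hm => ?_⟩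
    · rw [map_pow]; exact hx i
    · obtain ⟨x, hx⟩ := this.2 m fun i j => by rw [map_pow, map_pow]; exact hm i j
      exact ⟨x, fun i => by rw [← hx i, map_pow]; rfl⟩

variable [IsLocallyNoetherian X] [IsLocallyNoetherian X'] {Z : Set X} (hZ : StableUnderSpecialization Z)

include hZ in
omit [Flat f] [M.IsQuasicoherent] [IsLocallyNoetherian X] in
theorem exists_cl_preimage {V : X'.Opens} (hV : IsAffineOpen V) (T' : Cl (f.base ⁻¹' Z)) :
    ∃ T : Cl Z, V ⊓ f ⁻¹ᵁ T.U ≤ V ⊓ T'.U := by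
  classical
  have := noetherianSpace_of_isCompact hV.isCompact
  haveI : QuasiSober (V : Set X') := V.isOpen.isOpenEmbedding_subtypeVal.quasiSober
  let C : Set (V : Set X') := Subtype.val ⁻¹' (T'.1 : Set X')
  obtain ⟨S, hSf, hSc, hSi, hC⟩ := NoetherianSpace.exists_finite_set_isClosed_irreducible
    (s := C) (T'.1.isClosed.preimage continuous_subtype_val)
  have : Finite S := hSf
  have hgen : ∀ s : S, ∃ t : (V : Set X'), closure ({t} : Set (V : Set X')) = (s.1 : Set (V : Set X')) := fun s =>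
    ⟨(hSi s.1 s.2).genericPoint,
      ((hSi s.1 s.2).isGenericPoint_genericPoint_closure).def.trans (hSc s.1 s.2).closure_eq⟩
  choose t ht using hgen
  have htT : ∀ s : S, (t s).1 ∈ (T'.1 : Set X') := fun s => by
    have h1 : t s ∈ s.1 := ht s ▸ subset_closure rfl
    have h2 : t s ∈ C := hC ▸ Set.mem_sUnion_of_mem h1 s.2
    exact h2
  let T₀ : Closeds X := ⟨⋃ s : S, closure {f (t s).1}, isClosed_iUnion_of_finite fun _ => isClosed_closure⟩
  have hT₀ : (T₀ : Set X) ⊆ Z := Set.iUnion_subset fun s y hy =>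
    hZ (specializes_iff_mem_closure.mpr hy) (T'.2 (htT s))
  refine ⟨⟨T₀, hT₀⟩, fun x hx => ⟨hx.1, fun hxT => hx.2 ?_⟩⟩
  have hxC : (⟨x, hx.1⟩ : (V : Set X')) ∈ C := hxT
  rw [hC] at hxC
  obtain ⟨s, hs, hxs⟩ := hxC
  have hxs' : t ⟨s, hs⟩ ⤳ (⟨x, hx.1⟩ : (V : Set X')) :=
    specializes_iff_mem_closure.mpr ((ht ⟨s, hs⟩).ge hxs)
  exact Set.mem_iUnion.2 ⟨⟨s, hs⟩,
    specializes_iff_mem_closure.mp ((hxs'.map continuous_subtype_val).map f.continuous)⟩

include hZ in
theorem isZClosed_pullback (h : IsZClosed Z M) :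
    IsZClosed (f.base ⁻¹' Z) ((Scheme.Modules.pullback f).obj M) := by
  rw [isZClosed_iff_res_bijective] at h ⊢
  intro T'
  refine local_bijective fun V₀ x hx => ?_
  obtain ⟨W, hW, hxW, -⟩ := exists_affine_le (X := X) (V := ⊤) (x := f x) trivial
  obtain ⟨V, hV, hxV, hle⟩ := exists_affine_le (X := X') (V := V₀ ⊓ f ⁻¹ᵁ W) ⟨hx, hxW⟩
  refine ⟨V, hle.trans inf_le_left, hxV, ?_⟩
  have key : ∀ T : Cl Z, ∀ V' : X'.Opens, Function.Bijective
      (res ((Scheme.Modules.pullback f).obj M) (inf_le_left : V' ⊓ f ⁻¹ᵁ T.U ≤ V')) := fun T =>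
    local_bijective fun V₁ y hy => by
      obtain ⟨W', hW', hyW, -⟩ := exists_affine_le (X := X) (V := ⊤) (x := f y) trivial
      obtain ⟨A, hA, hyA, hle'⟩ := exists_affine_le (X := X') (V := V₁ ⊓ f ⁻¹ᵁ W') ⟨hy, hyW⟩
      exact ⟨A, hle'.trans inf_le_left, hyA, res_pullback_bijective f M hW' hA (hle'.trans inf_le_right)
        (isCompact_of_le hW'.isCompact inf_le_left) (h T W')⟩
  obtain ⟨T, hT⟩ := exists_cl_preimage f hZ hV T'
  have heq : V ⊓ T'.U ⊓ f ⁻¹ᵁ T.U = V ⊓ f ⁻¹ᵁ T.U :=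
    le_antisymm (inf_le_inf_right _ inf_le_left) (le_inf hT inf_le_right)
  have e : ∀ s, res ((Scheme.Modules.pullback f).obj M) hT
      (res _ (inf_le_left : V ⊓ T'.U ≤ V) s) = res _ inf_le_left s := fun s => by rw [res_res]
  have hinj : Function.Injective (res ((Scheme.Modules.pullback f).obj M) hT) := fun a b hab =>
    (key T (V ⊓ T'.U)).1 (by
      have := congrArg (res ((Scheme.Modules.pullback f).obj M) heq.le) hab
      rw [res_res, res_res] at this
      exact this)
  refine ⟨fun a b hab => (key T V).1 (by rw [← e, ← e, hab]), fun t => ?_⟩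
  obtain ⟨s, hs⟩ := (key T V).2 (res _ hT t)
  exact ⟨s, hinj ((e s).trans hs)⟩

omit [Flat f] [M.IsQuasicoherent] [IsLocallyNoetherian X] [IsLocallyNoetherian X'] in
theorem stalkLin_pullback_bijective {N : X.Modules} (u : M ⟶ N) (y : X')
    (hu : Function.Bijective (stalkLin u (f y))) :
    Function.Bijective (stalkLin ((Scheme.Modules.pullback f).map u) y) := by
  letI := Groth.QCohMod.stalkAlg f y
  let e := LinearEquiv.ofBijective (stalkLin u (f y)) hu
  let E := TensorProduct.AlgebraTensorModule.congr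
    (LinearEquiv.refl (X'.presheaf.stalk y) (X'.presheaf.stalk y)) e
  have key : ∀ z, stalkLin ((Scheme.Modules.pullback f).map u) y (Groth.QCohMod.pullStalkHom f M y z) =
      Groth.QCohMod.pullStalkHom f N y (E z) := fun z => by
    induction z using TensorProduct.induction_on with
    | zero => simp
    | tmul b t =>
      obtain ⟨U, hU, m, rfl⟩ := Groth.CohTwo.stalk_exists_germ M (f y) t
      rw [Groth.QCohMod.pullStalkHom_tmul, map_smul]
      erw [Groth.QCohMod.pullGerm_germ, stalkLin_germ]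
      rw [Groth.PicAux.pullSec_map]
      simp only [E, e, TensorProduct.AlgebraTensorModule.congr_tmul, LinearEquiv.refl_apply,
        LinearEquiv.ofBijective_apply, stalkLin_germ]
      rw [Groth.QCohMod.pullStalkHom_tmul]
      erw [Groth.QCohMod.pullGerm_germ]
    | add a b ha hb => simp [map_add, ha, hb]
  have h1 := Groth.QCohMod.pullStalkHom_bijective f M y
  have h2 := (Groth.QCohMod.pullStalkHom_bijective f N y).comp E.bijective
  have h3 : Function.Bijective
      (stalkLin ((Scheme.Modules.pullback f).map u) y ∘ Groth.QCohMod.pullStalkHom f M y) := by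
    rw [show _ ∘ _ = _ from funext key]
    exact h2
  exact (Function.Bijective.of_comp_iff _ h1).mp h3

include hZ in
/-- The Z-closure commutes with flat inverse image. -/
theorem nonempty_pullback_H0 :
    Nonempty ((Scheme.Modules.pullback f).obj ((H0 Z).obj M) ≅
      (H0 (f.base ⁻¹' Z)).obj ((Scheme.Modules.pullback f).obj M)) := by
  have hM : Coh.IsQCoh M := inferInstanceAs M.IsQuasicoherent
  haveI : ((H0 Z).obj M).IsQuasicoherent := isQCoh_H0 Z hM
  have hG := isZClosed_pullback f ((H0 Z).obj M) hZ (isZClosed_H0 (F := M))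
  let u := (Scheme.Modules.pullback f).map (rhoApp Z M)
  obtain ⟨v, hv, -⟩ := existsUnique_fac hG u
  haveI : IsIso v := isIso_fac hG (fun a b h ha => hZ (h.map f.continuous) ha) u
    (fun y hy => stalkLin_pullback_bijective f M (rhoApp Z M) y (isZClosedAt_of_not_mem hy)) v hv
  exact ⟨(asIso v).symm⟩

end Pullback

section Descent

variable {X X' : Scheme.{u}} (f : X' ⟶ X) [Flat f] [Surjective f] [QuasiCompact f]
  (M : X.Modules) [M.IsQuasicoherent]

/-- Finite type descends along faithfully flat quasi-compact morphisms. -/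
theorem isFT_of_pullback (hG : CohB1.IsFT ((Scheme.Modules.pullback f).obj M)) : CohB1.IsFT M := by
  classical
  refine Groth.QCohMod.isFT_of_affine_cover M fun x => ?_
  obtain ⟨W, hW, hxW, -⟩ := exists_affine_le (X := X) (V := ⊤) (x := x) trivial
  refine ⟨W, hW, hxW, ?_⟩
  have hc : IsCompact ((f ⁻¹ᵁ W : X'.Opens) : Set X') := f.isCompact_preimage hW.isCompact
  choose V hV hxV hVW using fun y : {y : X' // y ∈ f ⁻¹ᵁ W} => exists_affine_le y.2
  obtain ⟨S, hS⟩ := hc.elim_finite_subcover (fun y => (V y : Set X')) (fun y => (V y).isOpen)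
    (fun y hy => Set.mem_iUnion.2 ⟨⟨y, hy⟩, hxV _⟩)
  letI := fun y => Groth.QCohMod.sectionsAlg f (hVW y)
  haveI := fun y => (f.flat_appLE hW (hV y) (hVW y) : Module.Flat Γ(X, W) Γ(X', V y))
  let N := Γ(M, W)
  have hgen : ∀ y, ∃ N₀ : Submodule Γ(X, W) N, N₀.FG ∧
      Subsingleton (Γ(X', V y) ⊗[Γ(X, W)] (N ⧸ N₀)) := fun y => by
    have : Module.Finite Γ(X', V y) (Γ(X', V y) ⊗[Γ(X, W)] N) :=
      haveI := Groth.QCohMod.finite_sections _ hG (hV y)
      Module.Finite.equiv (Groth.QCohMod.pullSecEquiv f M (hVW y) hW (hV y)).symm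
    obtain ⟨G, hGspan⟩ := this.fg_top
    obtain ⟨N₀, hN₀, hr⟩ := TensorProduct.exists_finite_submodule_right_of_setFinite
      (G : Set (Γ(X', V y) ⊗[Γ(X, W)] N)) G.finite_toSet
    refine ⟨N₀, Module.Finite.iff_fg.mp hN₀, ?_⟩
    have hsurj : Function.Surjective (N₀.subtype.lTensor Γ(X', V y)) := fun z => by
      have h1 : Submodule.span Γ(X', V y) (G : Set (Γ(X', V y) ⊗[Γ(X, W)] N)) ≤
          LinearMap.range (TensorProduct.AlgebraTensorModule.lTensor Γ(X', V y) Γ(X', V y) N₀.subtype) :=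
        Submodule.span_le.mpr fun g hg => hr hg
      rw [hGspan] at h1
      exact h1 (Submodule.mem_top (x := z))
    refine subsingleton_of_forall_eq 0 fun z => ?_
    obtain ⟨w, rfl⟩ := N₀.mkQ.lTensor_surjective Γ(X', V y) (Submodule.mkQ_surjective _) z
    obtain ⟨v, rfl⟩ := hsurj w
    rw [← LinearMap.lTensor_comp_apply, show N₀.mkQ ∘ₗ N₀.subtype = 0 by ext a; simp,
      LinearMap.lTensor_zero, LinearMap.zero_apply]
  choose N₀ hfg hsub using hgen
  let T : Submodule Γ(X, W) N := S.sup N₀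
  suffices hT : T = ⊤ by
    refine ⟨hT ▸ ?_⟩
    exact Submodule.fg_finset_sup S N₀ fun y _ => hfg y
  refine eq_top_iff.2 fun n _ => ?_
  let l : Γ(X, W) →ₗ[Γ(X, W)] N ⧸ T := LinearMap.toSpanSingleton _ _ (T.mkQ n)
  let I : Ideal Γ(X, W) := LinearMap.ker l
  by_contra hn
  have hI : I ≠ ⊤ := fun h => hn ((Submodule.Quotient.mk_eq_zero T).mp (by
    have : l 1 = 0 := LinearMap.mem_ker.mp (h.ge Submodule.mem_top)
    simpa [l] using this))
  obtain ⟨m, hm, hIm⟩ := Ideal.exists_le_maximal I hI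
  have hpW : hW.fromSpec ⟨m, hm.isPrime⟩ ∈ W := hW.range_fromSpec.le ⟨_, rfl⟩
  obtain ⟨z, hz⟩ := f.surjective (hW.fromSpec ⟨m, hm.isPrime⟩)
  obtain ⟨y, hy, hzy⟩ := Set.mem_iUnion₂.1 (hS (show z ∈ f ⁻¹ᵁ W from (congrArg (· ∈ W) hz).mpr hpW))
  let q := (hV y).primeIdealOf ⟨z, hzy⟩
  have hq : m ≤ q.asIdeal.comap (algebraMap Γ(X, W) Γ(X', V y)) := by
    have h1 := congrArg PrimeSpectrum.asIdeal
      (IsAffineOpen.comap_primeIdealOf_appLE (f := f) W hW (V y) (hV y) (hVW y) hzy)
    refine le_of_eq (Eq.trans ?_ h1.symm)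
    rw [show hW.primeIdealOf ⟨f z, hVW y hzy⟩ = ⟨m, hm.isPrime⟩ from
      hW.fromSpec.isOpenEmbedding.injective ((hW.fromSpec_primeIdealOf _).trans hz)]
  let B := Γ(X', V y)
  haveI hflat : Module.Flat Γ(X, W) B := f.flat_appLE hW (hV y) (hVW y)
  have : Subsingleton (B ⊗[Γ(X, W)] (N ⧸ T)) :=
    (LinearMap.lTensor_surjective B (g := Submodule.mapQ (N₀ y) T LinearMap.id (Finset.le_sup (f := N₀) hy))
      (fun a => by obtain ⟨b, rfl⟩ := Submodule.Quotient.mk_surjective _ a; exact ⟨Submodule.Quotient.mk b, rfl⟩)).subsingleton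
  let lI : Γ(X, W) ⧸ I →ₗ[Γ(X, W)] N ⧸ T := I.liftQ l le_rfl
  have hlI : Function.Injective lI := LinearMap.ker_eq_bot.mp (Submodule.ker_liftQ_eq_bot _ _ _ le_rfl)
  let π : Γ(X, W) ⧸ I →ₗ[Γ(X, W)] B ⧸ q.asIdeal :=
    I.liftQ (Algebra.linearMap Γ(X, W) (B ⧸ q.asIdeal)) fun a ha =>
      LinearMap.mem_ker.mpr ((Ideal.Quotient.eq_zero_iff_mem).mpr (hq (hIm ha)))
  have h0 : (1 : B) ⊗ₜ[Γ(X, W)] (Submodule.Quotient.mk 1 : Γ(X, W) ⧸ I) = 0 :=
    Module.Flat.lTensor_preserves_injective_linearMap (M := B) lI hlI (Subsingleton.elim _ _)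
  have h1 := congrArg (π.liftBaseChange B) h0
  rw [LinearMap.liftBaseChange_tmul, one_smul, map_zero] at h1
  rw [show π (Submodule.Quotient.mk 1) = Algebra.linearMap Γ(X, W) (B ⧸ q.asIdeal) 1 from
    Submodule.liftQ_apply _ _ _, Algebra.linearMap_apply, map_one] at h1
  exact q.isPrime.ne_top ((Ideal.eq_top_iff_one _).mpr (Ideal.Quotient.eq_zero_iff_mem.mp h1))

end Descent

end Groth.ZClosAux
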