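import Groth.Agent.SchemeMorphisms.ZClos.Locus
import Mathlib.RingTheory.Support
import Mathlib.RingTheory.KrullDimension.Module

/-!
`(S₂)` of the Z-closure for `Z` the points of codimension at least two.
-/

universe u

open CategoryTheory CategoryTheory.Limits AlgebraicGeometry TopologicalSpace Opposite

set_option backward.isDefEq.respectTransparency false

namespace Groth.ZClosAux

open ZClos
open Groth.CohTwo (res stalkLin stalk_germ_smul)

variable {X : Scheme.{u}} {F : X.Modules}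

theorem stableUnderSpecialization_dimGe (n : ℕ) : StableUnderSpecialization (dimGe X n) := by
  intro x y h hx
  simp only [dimGe, Set.mem_ofPred_eq, ringKrullDim_stalk_eq_coheight] at hx ⊢
  exact hx.trans (WithBot.coe_le_coe.mpr (Order.coheight_anti h))

theorem dim_le_one_of_not_mem {x : X} (hx : x ∉ dimGe X 2) :
    ringKrullDim (X.presheaf.stalk x) ≤ 1 := by
  simp only [dimGe, Set.mem_ofPred_eq, not_le, ringKrullDim_stalk_eq_coheight] at hx ⊢
  refine WithBot.coe_le_coe.mpr ?_
  replace hx : Order.coheight x < (2 : ℕ) := WithBot.coe_lt_coe.mp hx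
  refine Order.le_of_lt_add_one ?_
  exact lt_of_lt_of_le hx (by norm_num)

/-- With support all of `X`, the dimension of a stalk is that of the local ring. -/
theorem supportDim_stalk_eq (hF : Coh.IsQCoh F) (hsupp : ∀ x : X, Nontrivial (F.presheaf.stalk x))
    (x : X) :
    Module.supportDim (X.presheaf.stalk x) (F.presheaf.stalk x) =
      ringKrullDim (X.presheaf.stalk x) := by
  have : F.IsQuasicoherent := hF
  suffices h : Module.support (X.presheaf.stalk x) (F.presheaf.stalk x) = Set.univ by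
    rw [Module.supportDim, h]
    exact Order.krullDim_eq_of_orderIso OrderIso.Set.univ
  refine Set.eq_univ_of_forall fun q => ?_
  obtain ⟨A, hA, hxA⟩ := exists_affine_mem' x
  let q' : Spec Γ(X, A) := PrimeSpectrum.comap (X.presheaf.germ A x hxA).hom q
  have hsup := (Groth.QCohMod.mem_support_iff F hA _ (Groth.SchemeMorphisms.fromSpec_mem hA q')).mp
    (not_subsingleton_iff_nontrivial.mpr (hsupp _))
  rw [Groth.SchemeMorphisms.primeIdealOf_fromSpec, Module.mem_support_iff'] at hsup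
  obtain ⟨m, hm⟩ := hsup
  refine Module.mem_support_iff'.mpr ⟨F.presheaf.germ A x hxA m, fun a ha h0 => ?_⟩
  let := TopCat.Presheaf.algebra_section_stalk X.presheaf (⟨x, hxA⟩ : A)
  have := hA.isLocalization_stalk (⟨x, hxA⟩ : A)
  obtain ⟨⟨r, u⟩, hru⟩ := IsLocalization.surj (hA.primeIdealOf ⟨x, hxA⟩).asIdeal.primeCompl a
  change a * X.presheaf.germ A x hxA u.1 = X.presheaf.germ A x hxA r at hru
  have hu : IsUnit (X.presheaf.germ A x hxA u.1) := (Scheme.mem_basicOpen X u.1 x hxA).mp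
    ((Groth.QCohMod.mem_basicOpen_iff_notMem_primeIdealOf hA u.1 x hxA).mpr u.2)
  have hr : X.presheaf.germ A x hxA r ∉ q.asIdeal := fun h =>
    ha ((Ideal.mul_unit_mem_iff_mem _ hu).mp (hru ▸ h))
  have h1 : F.presheaf.germ A x hxA (r • m) = 0 := by
    rw [stalk_germ_smul, ← hru, mul_comm, mul_smul, h0, smul_zero]
  obtain ⟨c, hc, hc0⟩ := Groth.QCohMod.exists_smul_eq_zero_of_germ_eq_zero F hA x hxA _ h1
  rw [← mul_smul] at hc0
  have hcu : IsUnit (X.presheaf.germ A x hxA c) := (Scheme.mem_basicOpen X c x hxA).mp hc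
  refine hm (c * r) (fun h => hr ?_) hc0
  have h' : X.presheaf.germ A x hxA (c * r) ∈ q.asIdeal := h
  rw [map_mul, Ideal.unit_mul_mem_iff_mem _ hcu] at h'
  exact h'

variable [IsLocallyNoetherian X]

theorem s2_at_of_not_mem (hF : Coh.IsCoh F)
    (hass : ∀ x ∈ AssSch.Ass F, ringKrullDim (X.presheaf.stalk x) ≠ 1) {x : X}
    (hx : x ∉ dimGe X 2) :
    Module.supportDim (X.presheaf.stalk x) (F.presheaf.stalk x) ≤
      ((LocCoh.depth (X.presheaf.stalk x) (F.presheaf.stalk x) : ℕ∞) : WithBot ℕ∞) := by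
  refine (Module.supportDim_le_ringKrullDim _ _).trans ?_
  have h1 := dim_le_one_of_not_mem hx
  rcases h1.lt_or_eq with h | h
  · rw [ringKrullDim_stalk_eq_coheight] at h ⊢
    refine WithBot.coe_le_coe.mpr ?_
    have h' : Order.coheight x < 1 := WithBot.coe_lt_coe.mp h
    rw [Order.lt_one_iff.mp h']
    exact bot_le
  · rw [h]
    exact WithBot.coe_le_coe.mpr ((one_le_depth_stalk_iff hF x).mpr fun hA => hass x hA h)

theorem hasS2_H0 (hF : Coh.IsCoh F)
    (hass : ∀ x ∈ AssSch.Ass F, ringKrullDim (X.presheaf.stalk x) ≠ 1)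
    (hH : Coh.IsCoh ((H0 (dimGe X 2)).obj F)) (x : X) :
    min (2 : WithBot ℕ∞) (Module.supportDim (X.presheaf.stalk x)
        (((H0 (dimGe X 2)).obj F).presheaf.stalk x)) ≤
      ((LocCoh.depth (X.presheaf.stalk x) (((H0 (dimGe X 2)).obj F).presheaf.stalk x) : ℕ∞) :
        WithBot ℕ∞) := by
  by_cases hx : x ∈ dimGe X 2
  · refine (min_le_left _ _).trans (WithBot.coe_le_coe.mpr ?_)
    exact (isZClosedAt_iff (stableUnderSpecialization_dimGe 2) hH x).mp
      (isZClosedAt_of_isZClosed isZClosed_H0 x) x specializes_rfl hx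
  · refine (min_le_right _ _).trans ((Module.supportDim_le_ringKrullDim _ _).trans ?_)
    have h1 := dim_le_one_of_not_mem hx
    rcases h1.lt_or_eq with h | h
    · rw [ringKrullDim_stalk_eq_coheight] at h ⊢
      refine WithBot.coe_le_coe.mpr ?_
      rw [Order.lt_one_iff.mp (WithBot.coe_lt_coe.mp h)]
      exact bot_le
    · rw [h]
      exact WithBot.coe_le_coe.mpr ((one_le_depth_stalk_iff hH x).mpr fun hA =>
        hass x ((mem_ass_H0_iff_of_not_mem hF.1 hx).mp hA) h)

theorem forall_s2_iff_closedAt (hF : Coh.IsCoh F)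
    (hsupp : ∀ x : X, Nontrivial (F.presheaf.stalk x))
    (hass : ∀ x ∈ AssSch.Ass F, ringKrullDim (X.presheaf.stalk x) ≠ 1) (x : X) :
    (∀ x' : X, x' ⤳ x →
      min (2 : WithBot ℕ∞) (Module.supportDim (X.presheaf.stalk x') (F.presheaf.stalk x')) ≤
        ((LocCoh.depth (X.presheaf.stalk x') (F.presheaf.stalk x') : ℕ∞) : WithBot ℕ∞)) ↔
      IsZClosedAt (dimGe X 2) F x := by
  rw [isZClosedAt_iff (stableUnderSpecialization_dimGe 2) hF x]
  constructor
  · intro h y hyx hy
    have h2 := h y hyx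
    rw [supportDim_stalk_eq hF.1 hsupp, min_eq_left hy] at h2
    exact WithBot.coe_le_coe.mp h2
  · intro h y hyx
    by_cases hy : y ∈ dimGe X 2
    · exact (min_le_left _ _).trans (WithBot.coe_le_coe.mpr (h y hyx hy))
    · exact (min_le_right _ _).trans (s2_at_of_not_mem hF hass hy)

theorem isOpen_s2_locus (hF : Coh.IsCoh F) (hsupp : ∀ x : X, Nontrivial (F.presheaf.stalk x))
    (hass : ∀ x ∈ AssSch.Ass F, ringKrullDim (X.presheaf.stalk x) ≠ 1)
    (hH : Coh.IsCoh ((H0 (dimGe X 2)).obj F)) :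
    IsOpen {x : X | ∀ x' : X, x' ⤳ x →
        min (2 : WithBot ℕ∞) (Module.supportDim (X.presheaf.stalk x') (F.presheaf.stalk x')) ≤
          ((LocCoh.depth (X.presheaf.stalk x') (F.presheaf.stalk x') : ℕ∞) : WithBot ℕ∞)} ∧
      ∀ x : X, (¬ ∀ x' : X, x' ⤳ x →
        min (2 : WithBot ℕ∞) (Module.supportDim (X.presheaf.stalk x') (F.presheaf.stalk x')) ≤
          ((LocCoh.depth (X.presheaf.stalk x') (F.presheaf.stalk x') : ℕ∞) : WithBot ℕ∞)) →
        (2 : WithBot ℕ∞) ≤ ringKrullDim (X.presheaf.stalk x) := by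
  simp only [forall_s2_iff_closedAt hF hsupp hass]
  refine ⟨isOpen_closedAt hF hH, fun x hx => ?_⟩
  exact_mod_cast (by_contra fun hxZ => hx (isZClosedAt_of_not_mem hxZ) : x ∈ dimGe X 2)

end Groth.ZClosAux
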