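import Groth.Agent.SchemeMorphisms.ZClos.HullSections
import Groth.Agent.QCohMod.Coherent

/-!
Coherence of the Z-closure from coherent direct images off a covering family.
-/

universe u

open CategoryTheory CategoryTheory.Limits AlgebraicGeometry TopologicalSpace Opposite

set_option backward.isDefEq.respectTransparency false

namespace Groth.ZClosAux

open ZClos
open Groth.SchemeMorphisms (fromSpec_mem primeIdealOf_fromSpec fromSpec_mem_ass)

variable {X : Scheme.{u}} {Z : Set X} {F : X.Modules}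

/-- For a closed `Z` the closure is the direct image from the complement. -/
theorem isCoh_H0_of_resPush (T : Cl Z) (h : Coh.IsCoh ((resPush T.U).obj F)) :
    Coh.IsCoh ((H0 (T.1 : Set X)).obj F) := by
  let j : Cl (T.1 : Set X) := ⟨T.1, subset_rfl⟩
  have hj : IsTerminal j := IsTerminal.ofUniqueHom (fun S => homOfLE S.2) fun _ _ => Subsingleton.elim _ _
  have : IsIso (colimit.ι ((diagram (T.1 : Set X)).obj F) j) := isIso_ι_of_isTerminal hj _
  exact Groth.QCohMod.isCoh_of_iso (asIso (colimit.ι ((diagram (T.1 : Set X)).obj F) j))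
    (show Coh.IsCoh (((diagram (T.1 : Set X)).obj F).obj j) from h)

theorem two_le_height_of_two_le_dim {V : X.Opens} (hV : IsAffineOpen V) (q r : Spec Γ(X, V))
    (hqr : q.asIdeal ≤ r.asIdeal) (h : hV.fromSpec q ⤳ hV.fromSpec r)
    (hdim : (2 : WithBot ℕ∞) ≤ ringKrullDim (X.presheaf.stalk (hV.fromSpec r) ⧸
      (IsLocalRing.maximalIdeal (X.presheaf.stalk (hV.fromSpec q))).comap
        (X.presheaf.stalkSpecializes h).hom)) :
    (2 : ℕ∞) ≤ (r.asIdeal.map (Ideal.Quotient.mk q.asIdeal)).height := by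
  set y := hV.fromSpec r
  have hy : y ∈ V := fromSpec_mem hV r
  set pt := (IsLocalRing.maximalIdeal (X.presheaf.stalk (hV.fromSpec q))).comap
    (X.presheaf.stalkSpecializes h).hom
  let := TopCat.Presheaf.algebra_section_stalk X.presheaf (⟨y, hy⟩ : V)
  have := hV.isLocalization_stalk (⟨y, hy⟩ : V)
  have hry : (hV.primeIdealOf ⟨y, hy⟩).asIdeal = r.asIdeal :=
    congrArg PrimeSpectrum.asIdeal (primeIdealOf_fromSpec hV r)
  let φ : Γ(X, V) →+* X.presheaf.stalk y ⧸ pt := (Ideal.Quotient.mk pt).comp (X.presheaf.germ V y hy).hom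
  have hφ : ∀ a ∈ q.asIdeal, φ a = 0 := fun a ha => by
    refine Ideal.Quotient.eq_zero_iff_mem.mpr ?_
    rw [Ideal.mem_comap, TopCat.Presheaf.germ_stalkSpecializes_apply, IsLocalRing.mem_maximalIdeal,
      mem_nonunits_iff, ← Scheme.mem_basicOpen X a _ (fromSpec_mem hV q),
      Groth.QCohMod.mem_basicOpen_iff_notMem_primeIdealOf hV a _ (fromSpec_mem hV q), not_not,
      primeIdealOf_fromSpec]
    exact ha
  let ψ : Γ(X, V) ⧸ q.asIdeal →+* X.presheaf.stalk y ⧸ pt := Ideal.Quotient.lift _ φ hφ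
  have hrm : (r.asIdeal.map (Ideal.Quotient.mk q.asIdeal)).IsPrime :=
    Ideal.map_isPrime_of_surjective Ideal.Quotient.mk_surjective (by rwa [Ideal.mk_ker])
  let r' : PrimeSpectrum (Γ(X, V) ⧸ q.asIdeal) := ⟨_, hrm⟩
  have hle : ∀ P : PrimeSpectrum (X.presheaf.stalk y ⧸ pt), PrimeSpectrum.comap ψ P ≤ r' := by
    intro P a ha
    obtain ⟨a, rfl⟩ := Ideal.Quotient.mk_surjective a
    refine Ideal.mem_map_of_mem _ ?_
    have ha' : φ a ∈ P.asIdeal := ha
    by_contra har
    have hu : IsUnit (X.presheaf.germ V y hy a) := (Scheme.mem_basicOpen X a y hy).mp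
      ((Groth.QCohMod.mem_basicOpen_iff_notMem_primeIdealOf hV a y hy).mpr (by rwa [hry]))
    exact P.isPrime.ne_top (Ideal.eq_top_of_isUnit_mem _ ha' (hu.map (Ideal.Quotient.mk pt)))
  let f : PrimeSpectrum (X.presheaf.stalk y ⧸ pt) → Set.Iic r' := fun P => ⟨PrimeSpectrum.comap ψ P, hle P⟩
  have hinj : Function.Injective f := fun P P' e => by
    have e' : (P.asIdeal.comap (Ideal.Quotient.mk pt)).comap (algebraMap Γ(X, V) (X.presheaf.stalk y)) =
        (P'.asIdeal.comap (Ideal.Quotient.mk pt)).comap (algebraMap Γ(X, V) (X.presheaf.stalk y)) :=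
      congrArg (fun I : Set.Iic r' => (I.1.asIdeal).comap (Ideal.Quotient.mk q.asIdeal)) e
    have e'' := congrArg (Ideal.map (algebraMap Γ(X, V) (X.presheaf.stalk y))) e'
    rw [IsLocalization.map_under (hV.primeIdealOf ⟨y, hy⟩).asIdeal.primeCompl,
      IsLocalization.map_under (hV.primeIdealOf ⟨y, hy⟩).asIdeal.primeCompl] at e''
    exact PrimeSpectrum.ext (Ideal.comap_injective_of_surjective _ Ideal.Quotient.mk_surjective e'')
  have hmono : StrictMono f :=
    Monotone.strictMono_of_injective (fun P P' hPP' => Ideal.comap_mono hPP') hinj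
  have hbound := Order.krullDim_le_of_strictMono f hmono
  rw [← Order.height_eq_krullDim_Iic, ← PrimeSpectrum.height_eq_orderHeight] at hbound
  exact WithBot.coe_le_coe.mp (hdim.trans hbound)

variable [IsLocallyNoetherian X]

theorem isCoh_H0_of_finite_sections (hF : Coh.IsQCoh F)
    (h : ∀ V : X.Opens, IsAffineOpen V → Module.Finite Γ(X, V) Γ((H0 Z).obj F, V)) :
    Coh.IsCoh ((H0 Z).obj F) :=
  (Groth.QCohMod.isCoh_iff _).mpr ⟨isQCoh_H0 Z hF, h⟩

theorem isCoh_H0_of_family (hZ : StableUnderSpecialization Z) (hF : Coh.IsCoh F)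
    (hhull : ∀ (V : X.Opens) (hV : IsAffineOpen V) (x : X) (hxV : x ∈ V), x ∈ AssSch.Ass F → x ∉ Z →
      EGA4.HeightOneHullFinite (Γ(X, V) ⧸ (hV.primeIdealOf ⟨x, hxV⟩).asIdeal))
    (𝒯 : Set (Cl Z)) (hcov : ∀ z ∈ Z, ∃ T ∈ 𝒯, z ∈ (T.1 : Set X))
    (hd : ∀ T ∈ 𝒯, Coh.IsCoh ((resPush T.U).obj F)) :
    Coh.IsCoh ((H0 Z).obj F) := by
  refine isCoh_H0_of_finite_sections hF.1 fun V hV => finite_H0_sections hZ hF hV
    (fun q hq hqZ => ?_) fun q r hq hqZ hqr hrZ => ?_
  · have h := hhull V hV _ (fromSpec_mem hV q) (fromSpec_mem_ass hF.1 hV q hq) hqZ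
    have e := primeIdealOf_fromSpec hV q
    convert h using 3 <;> rw [e]
  · have hsp : hV.fromSpec q ⤳ hV.fromSpec r :=
      ((PrimeSpectrum.le_iff_specializes q r).mp hqr).map hV.fromSpec.continuous
    obtain ⟨T, hT, hyT⟩ := hcov _ hrZ
    exact two_le_height_of_two_le_dim hV q r hqr hsp
      (two_le_dim_quot (fun _ _ hab ha => hab.mem_closed T.1.isClosed ha) hF
        (isCoh_H0_of_resPush T (hd T hT)) (fromSpec_mem_ass hF.1 hV q hq) (fun h => hqZ (T.2 h))
        hyT hsp)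

end Groth.ZClosAux
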