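import Groth.Agent.SchemeMorphisms.ZClos.HullSurj
import Groth.Agent.SchemeMorphisms.ZClos.HullTransport
import Groth.Agent.Flatmor4.ModuleApprox
import Groth.Prelude.Def_EGA4c

/-!
Coherence of Z-closures on an affine Noetherian scheme against finiteness of height-one hulls.
-/

universe u

open CategoryTheory CategoryTheory.Limits AlgebraicGeometry TopologicalSpace Opposite

set_option backward.isDefEq.respectTransparency false

namespace Groth.ZClosAux

open ZClos
open Groth.SchemeMorphisms (fromSpec_mem primeIdealOf_fromSpec fromSpec_mem_ass)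

variable (A : Type u) [CommRing A]

/-- The ring as the global sections of its spectrum. -/
noncomputable def gammaEquiv : A ≃+* Γ(Spec (CommRingCat.of A), (⊤ : (Spec (CommRingCat.of A)).Opens)) :=
  (Scheme.ΓSpecIso (CommRingCat.of A)).commRingCatIsoToRingEquiv.symm

variable (M : Type u) [AddCommGroup M] [Module A M]

/-- The module as the global sections of its sheaf. -/
noncomputable def gammaModEquiv : M ≃+ Γ(EGA4.tildeOf A M, (⊤ : (Spec (CommRingCat.of A)).Opens)) :=
  (tilde.isoTop (ModuleCat.of (CommRingCat.of A) M)).toLinearEquiv.toAddEquiv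

theorem gammaModEquiv_smul (a : A) (m : M) :
    gammaModEquiv A M (a • m) = gammaEquiv A a • gammaModEquiv A M m := by
  refine ((tilde.isoTop (ModuleCat.of (CommRingCat.of A) M)).toLinearEquiv.map_smul a m).trans ?_
  change _ = (Scheme.ΓSpecIso (CommRingCat.of A)).inv a • _
  erw [Scheme.Modules.smul_Spec_def]

theorem asIdeal_fromSpec (q : Spec Γ(Spec (CommRingCat.of A), (⊤ : (Spec (CommRingCat.of A)).Opens))) :
    ((isAffineOpen_top (Spec (CommRingCat.of A))).fromSpec q).asIdeal =
      q.asIdeal.comap (gammaEquiv A).toRingHom := by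
  ext a
  have h1 := (Groth.QCohMod.mem_basicOpen_iff_notMem_primeIdealOf
    (isAffineOpen_top (Spec (CommRingCat.of A))) (gammaEquiv A a) _
    (fromSpec_mem (isAffineOpen_top (Spec (CommRingCat.of A))) q))
  rw [primeIdealOf_fromSpec] at h1
  have h2 : (Spec (CommRingCat.of A)).basicOpen (gammaEquiv A a) = PrimeSpectrum.basicOpen a :=
    basicOpen_eq_of_affine (R := CommRingCat.of A) a
  rw [h2] at h1
  exact not_iff_not.mp h1

variable [IsNoetherianRing A] [Module.Finite A M]

omit [Module.Finite A M] in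
theorem isNoetherianRing_gamma :
    IsNoetherianRing Γ(Spec (CommRingCat.of A), (⊤ : (Spec (CommRingCat.of A)).Opens)) :=
  isNoetherianRing_of_ringEquiv A (gammaEquiv A)

omit [IsNoetherianRing A] in
theorem isCoh_tildeOf : Coh.IsCoh (EGA4.tildeOf A M) :=
  ⟨inferInstanceAs (EGA4.tildeOf A M).IsQuasicoherent,
    Groth.Flatmor4.isFT_tilde (ModuleCat.of (CommRingCat.of A) M)⟩

theorem isCoh_H0_of_hulls (h : ∀ (q : Ideal A) [q.IsPrime], EGA4.HeightOneHullFinite (A ⧸ q))
    (Z : Set (PrimeSpectrum A)) (hZ : StableUnderSpecialization Z)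
    (hc : ∀ x : PrimeSpectrum A, x.asIdeal ∈ associatedPrimes A M → x ∉ Z →
      ∀ y ∈ Z, x.asIdeal ≤ y.asIdeal →
        (2 : ℕ∞) ≤ (y.asIdeal.map (Ideal.Quotient.mk x.asIdeal)).height) :
    Coh.IsCoh ((H0 (X := Spec (CommRingCat.of A)) Z).obj (EGA4.tildeOf A M)) := by
  have hF := isCoh_tildeOf A M
  have hqc := isQCoh_H0 (X := Spec (CommRingCat.of A)) Z hF.1
  have := isNoetherianRing_gamma A
  have htop := isAffineOpen_top (Spec (CommRingCat.of A))
  have key : ∀ q : Spec Γ(Spec (CommRingCat.of A), (⊤ : (Spec (CommRingCat.of A)).Opens)),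
      q.asIdeal ∈ associatedPrimes _ Γ(EGA4.tildeOf A M, (⊤ : (Spec (CommRingCat.of A)).Opens)) →
        (htop.fromSpec q).asIdeal ∈ associatedPrimes A M := fun q hq => by
    rw [asIdeal_fromSpec]
    exact (comap_mem_associatedPrimes_iff (gammaEquiv A) (gammaModEquiv A M) (gammaModEquiv_smul A M)
      q.asIdeal).mpr hq
  have hfin : Module.Finite Γ(Spec (CommRingCat.of A), (⊤ : (Spec (CommRingCat.of A)).Opens))
      Γ((H0 (X := Spec (CommRingCat.of A)) Z).obj (EGA4.tildeOf A M),
        (⊤ : (Spec (CommRingCat.of A)).Opens)) :=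
    finite_H0_sections hZ hF htop
      (fun q _ _ => heightOneHullFinite_of_ringEquiv (quotEquiv (gammaEquiv A) q.asIdeal)
        (h (q.asIdeal.comap (gammaEquiv A).toRingHom)))
      fun q r hq hqZ hqr hrZ => by
        rw [height_map_quot (gammaEquiv A)]
        have h2 := hc _ (key q hq) hqZ _ hrZ (by
          rw [asIdeal_fromSpec, asIdeal_fromSpec]; exact Ideal.comap_mono hqr)
        rwa [asIdeal_fromSpec, asIdeal_fromSpec] at h2
  have : ((H0 (X := Spec (CommRingCat.of A)) Z).obj (EGA4.tildeOf A M)).IsQuasicoherent := hqc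
  exact ⟨hqc, Groth.QCohMod.isFT_of_affine_cover _ fun x => ⟨⊤, htop, trivial, hfin⟩⟩

omit [Module.Finite A M] in
theorem hull_finite_of_forall_isCoh
    (h : ∀ (M : Type u) [AddCommGroup M] [Module A M] [Module.Finite A M]
      (Z : Set (PrimeSpectrum A)), StableUnderSpecialization Z →
      (∀ x : PrimeSpectrum A, x.asIdeal ∈ associatedPrimes A M → x ∉ Z →
        ∀ y ∈ Z, x.asIdeal ≤ y.asIdeal →
          (2 : ℕ∞) ≤ (y.asIdeal.map (Ideal.Quotient.mk x.asIdeal)).height) →
      Coh.IsCoh ((H0 (X := Spec (CommRingCat.of A)) Z).obj (EGA4.tildeOf A M)))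
    (q : Ideal A) [q.IsPrime] : EGA4.HeightOneHullFinite (A ⧸ q) := by
  have := isNoetherianRing_gamma A
  have htop := isAffineOpen_top (Spec (CommRingCat.of A))
  let e := gammaEquiv A
  let q' : Spec Γ(Spec (CommRingCat.of A), (⊤ : (Spec (CommRingCat.of A)).Opens)) :=
    ⟨q.comap e.symm.toRingHom, inferInstance⟩
  have hq' : q'.asIdeal.comap e.toRingHom = q := by
    ext a
    change e.symm (e a) ∈ q ↔ _
    rw [RingEquiv.symm_apply_apply]
  let Z : Set (PrimeSpectrum A) :=
    {y | q ≤ y.asIdeal ∧ (2 : ℕ∞) ≤ (y.asIdeal.map (Ideal.Quotient.mk q)).height}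
  have hZ : StableUnderSpecialization Z := fun y y' hy hyZ => by
    have hle := (PrimeSpectrum.le_iff_specializes y y').mpr hy
    exact ⟨hyZ.1.trans hle, hyZ.2.trans (Ideal.height_mono (Ideal.map_mono hle))⟩
  have hass : associatedPrimes A (A ⧸ q) = {q} := associatedPrimes_quotient_prime q
  have hH := h (A ⧸ q) Z hZ fun x hx _ y hy _ => by
    rw [hass, Set.mem_singleton_iff] at hx
    obtain ⟨xI, hxp⟩ := x
    subst hx
    exact hy.2
  set F := EGA4.tildeOf A (A ⧸ q)
  have hF : Coh.IsCoh F := isCoh_tildeOf A (A ⧸ q)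
  have : F.IsQuasicoherent := hF.1
  let Q1 : (A ⧸ q) ≃+* _ ⧸ q'.asIdeal :=
    Ideal.quotientEquiv q q'.asIdeal e (Ideal.map_comap_of_equiv e).symm
  let f := gammaModEquiv A (A ⧸ q)
  let g : Γ(F, (⊤ : (Spec (CommRingCat.of A)).Opens)) →ₗ[Γ(Spec (CommRingCat.of A),
      (⊤ : (Spec (CommRingCat.of A)).Opens))] _ ⧸ q'.asIdeal :=
    { toFun := fun n => Q1 (f.symm n)
      map_add' := fun m n => by rw [map_add, map_add]
      map_smul' := fun r n => by
        obtain ⟨a, rfl⟩ := e.surjective r
        obtain ⟨m, rfl⟩ := f.surjective n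
        rw [RingHom.id_apply, ← gammaModEquiv_smul A (A ⧸ q), f.symm_apply_apply,
          f.symm_apply_apply, Algebra.smul_def, map_mul, Algebra.smul_def]
        rfl }
  have hg : Function.Bijective g := Q1.bijective.comp f.symm.bijective
  have hassF : ∀ y ∈ AssSch.Ass F, y = htop.fromSpec q' := fun y hy => by
    have h1 := (Groth.SchemeMorphisms.mem_ass_iff hF.1 htop (x := y) trivial).mp hy
    rw [LinearEquiv.AssociatedPrimes.eq (LinearEquiv.ofBijective g hg),
      associatedPrimes_quotient_prime, Set.mem_singleton_iff] at h1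
    exact (htop.fromSpec_primeIdealOf ⟨y, trivial⟩).symm.trans
      (congrArg htop.fromSpec (PrimeSpectrum.ext h1))
  have hZr : ∀ r : Spec Γ(Spec (CommRingCat.of A), (⊤ : (Spec (CommRingCat.of A)).Opens)),
      q'.asIdeal ≤ r.asIdeal →
      (htop.fromSpec r ∈ Z ↔ (2 : ℕ∞) ≤ (r.asIdeal.map (Ideal.Quotient.mk q'.asIdeal)).height) := by
    intro r hr
    have h1 := height_map_quot e q'.asIdeal r.asIdeal
    rw [hq'] at h1
    rw [h1]
    change q ≤ (htop.fromSpec r).asIdeal ∧ _ ↔ _
    rw [asIdeal_fromSpec]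
    exact and_iff_right (hq' ▸ Ideal.comap_mono hr)
  have hqZ : htop.fromSpec q' ∉ Z := fun hmem => by
    have h1 := (hZr q' le_rfl).mp hmem
    rw [Ideal.map_quotient_self, Ideal.height_bot] at h1
    norm_num at h1
  have : ((H0 (X := Spec (CommRingCat.of A)) Z).obj F).IsQuasicoherent := hH.1
  have hfin := Groth.QCohMod.finite_sections _ hH.2 htop
  have hhull : Module.Finite Γ(Spec (CommRingCat.of A), (⊤ : (Spec (CommRingCat.of A)).Opens))
      (hull q'.asIdeal (Γ(Spec (CommRingCat.of A), (⊤ : (Spec (CommRingCat.of A)).Opens)) ⧸ q'.asIdeal)) :=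
    Module.Finite.of_surjective
      (LinearMap.codRestrict _ (theta htop q' g hqZ)
        (theta_mem_hull htop q' g hqZ fun r hr => (hZr r hr).mp))
      fun z => by
        obtain ⟨s, hs⟩ := exists_theta_eq htop q' g hg hqZ hassF
          (fun r hr hrZ => by
            rw [hZr r hr, not_le, show (2 : ℕ∞) = 1 + 1 by norm_num] at hrZ
            exact Order.le_of_lt_add_one hrZ) z.2
        exact ⟨s, Subtype.ext hs⟩
  exact heightOneHullFinite_of_ringEquiv Q1.symm ((finite_hull_quotient_iff q'.asIdeal).mp hhull)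

end Groth.ZClosAux
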