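import Groth.Agent.SchemeMorphisms.ZClos.Core
import Groth.Agent.QCohMod.Stalk

/-!
Z-pure and Z-closed modules in terms of sections; the universal property of the Z-closure.
-/

universe u

open CategoryTheory CategoryTheory.Limits AlgebraicGeometry TopologicalSpace Opposite

set_option backward.isDefEq.respectTransparency false

namespace Groth.ZClosAux

open ZClos
open Groth.CohTwo (res res_rfl res_res app_res eq_of_local exists_glue mono_iff_app_injective
  app_injective isIso_of_app_bijective stalkLin_germ stalkAb)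

variable {X : Scheme.{u}} {Z : Set X} {F : X.Modules}

theorem res_eq_bijective (M : X.Modules) {A B : X.Opens} (h : A ≤ B) (h' : B ≤ A) :
    Function.Bijective (res M h) :=
  ⟨fun a b e => by simpa [res_res] using congrArg (res M h') e,
    fun b => ⟨res M h' b, by rw [res_res, res_rfl]⟩⟩

theorem toDiagram_app (T : Cl Z) (V : X.Opens) (s : Γ(F, V)) :
    (toDiagram Z F T).app V s = res F (T.U.ι.image_preimage_le V) s :=
  rfl

theorem toDiagram_app_injective_iff (T : Cl Z) (V : X.Opens) :
    Function.Injective ((toDiagram Z F T).app V) ↔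
      Function.Injective (res F (inf_le_left : V ⊓ T.U ≤ V)) := by
  have h : ((toDiagram Z F T).app V : _ → _) =
      res F (image_preimage_le T.U V) ∘ res F (inf_le_left : V ⊓ T.U ≤ V) := by
    funext s
    exact (toDiagram_app T V s).trans (res_res F _ _ s).symm
  rw [h]
  exact (res_eq_bijective F _ (le_image_preimage T.U V)).1.of_comp_iff _

theorem toDiagram_app_bijective_iff (T : Cl Z) (V : X.Opens) :
    Function.Bijective ((toDiagram Z F T).app V) ↔
      Function.Bijective (res F (inf_le_left : V ⊓ T.U ≤ V)) := by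
  have h : ((toDiagram Z F T).app V : _ → _) =
      res F (image_preimage_le T.U V) ∘ res F (inf_le_left : V ⊓ T.U ≤ V) := by
    funext s
    exact (toDiagram_app T V s).trans (res_res F _ _ s).symm
  rw [h]
  exact (res_eq_bijective F _ (le_image_preimage T.U V)).of_comp_iff' _

variable (Z F) in
theorem isZPure_iff_res_injective :
    IsZPure Z F ↔ ∀ (T : Cl Z) (V : X.Opens), Function.Injective (res F (inf_le_left : V ⊓ T.U ≤ V)) := by
  refine ⟨fun h T V s s' e => ?_, fun h => (mono_iff_app_injective _).2 fun V => ?_⟩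
  · have : Mono (rhoApp Z F) := h
    refine app_injective (rhoApp Z F) V ?_
    rw [rho_app_apply T, rho_app_apply T, e]
  · refine (injective_iff_map_eq_zero _).2 fun s hs => eq_of_local F _ _ fun x hx => ?_
    rw [rho_app_apply ⊥] at hs
    obtain ⟨W, hW, T', hT, hxW, h0⟩ := exists_local_zero ⊥ V _ hs hx
    refine ⟨W, hW, hxW, ?_⟩
    rw [map_zero]
    refine h T' W ?_
    rw [map_zero, res_res]
    rw [res_res] at h0
    exact h0

variable (Z F) in
theorem isZClosed_iff_res_bijective :
    IsZClosed Z F ↔ ∀ (T : Cl Z) (V : X.Opens), Function.Bijective (res F (inf_le_left : V ⊓ T.U ≤ V)) := by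
  constructor
  · intro h T V
    have : IsIso (rhoApp Z F) := h
    have hp : IsZPure Z F := inferInstanceAs (Mono (rhoApp Z F))
    refine ⟨(isZPure_iff_res_injective Z F).1 hp T V, fun t => ?_⟩
    obtain ⟨s, hs⟩ := (ConcreteCategory.bijective_of_isIso ((rhoApp Z F).app V)).2 (imgH Z F T V t)
    refine ⟨s, app_injective (rhoApp Z F) _ ?_⟩
    rw [app_res, rho_self, hs]
  · intro h
    have hp : Mono (rhoApp Z F) := (isZPure_iff_res_injective Z F).2 fun T V => (h T V).1
    refine isIso_of_app_bijective _ fun V => ⟨app_injective (rhoApp Z F) V, fun s => ?_⟩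
    choose W hW T t hxW ht using fun x : {x : X // x ∈ V} => exists_local_rep V s x.2
    choose a ha using fun x => (h (T x) (W x)).2 (t x)
    have hρ : ∀ x, (rhoApp Z F).app (W x) (a x) = res ((H0 Z).obj F) (hW x) s := fun x => by
      rw [rho_app_apply (T x), ha, ht]
    obtain ⟨g, hg⟩ := exists_glue F (W := V) (ι := {x : X // x ∈ V}) W hW
      (fun x hx => ⟨⟨x, hx⟩, hxW _⟩) a fun i j => app_injective (rhoApp Z F) _ (by
        rw [app_res, app_res, hρ, hρ, res_res, res_res])
    refine ⟨g, eq_of_local _ _ _ fun x hx => ⟨W ⟨x, hx⟩, hW _, hxW _, ?_⟩⟩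
    rw [← app_res, hg, hρ]

theorem isZPure_of_isZClosed (h : IsZClosed Z F) : IsZPure Z F :=
  haveI : IsIso (rhoApp Z F) := h
  inferInstanceAs (Mono (rhoApp Z F))

theorem isZPure_iff_forall_mono : IsZPure Z F ↔ ∀ T : Cl Z, Mono (toDiagram Z F T) := by
  rw [isZPure_iff_res_injective]
  refine forall_congr' fun T => ?_
  rw [mono_iff_app_injective]
  exact forall_congr' fun V => (toDiagram_app_injective_iff T V).symm

theorem isZClosed_iff_forall_isIso : IsZClosed Z F ↔ ∀ T : Cl Z, IsIso (toDiagram Z F T) := by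
  rw [isZClosed_iff_res_bijective]
  refine forall_congr' fun T => ⟨fun h => isIso_of_app_bijective _ fun V =>
    (toDiagram_app_bijective_iff T V).2 (h V), fun h V => (toDiagram_app_bijective_iff T V).1 ?_⟩
  exact ConcreteCategory.bijective_of_isIso ((toDiagram Z F T).app V)

theorem isZPure_and_isZClosed_mono {Z' : Set X} (h : Z' ⊆ Z) :
    (IsZPure Z F → IsZPure Z' F) ∧ (IsZClosed Z F → IsZClosed Z' F) := by
  rw [isZPure_iff_res_injective, isZPure_iff_res_injective, isZClosed_iff_res_bijective,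
    isZClosed_iff_res_bijective]
  exact ⟨fun hp T V => hp ⟨T.1, T.2.trans h⟩ V, fun hp T V => hp ⟨T.1, T.2.trans h⟩ V⟩

/-- Off `Z` the map to the Z-closure is bijective on stalks. -/
theorem isZClosedAt_of_not_mem {x : X} (hx : x ∉ Z) : IsZClosedAt Z F x := by
  have hmap : ∀ (V : X.Opens) (hV : x ∈ V) (s : Γ(F, V)),
      rhoStalk Z F x (F.presheaf.germ V x hV s) =
        ((H0 Z).obj F).presheaf.germ V x hV ((rhoApp Z F).app V s) := fun V hV s =>
    stalkLin_germ (rhoApp Z F) x hV s
  refine ⟨(injective_iff_map_eq_zero (rhoStalk Z F x).hom).2 fun z hz => ?_, fun z => ?_⟩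
  · obtain ⟨V, hxV, s, rfl⟩ := Groth.CohTwo.stalk_exists_germ F x z
    replace hz : ((H0 Z).obj F).presheaf.germ V x hxV ((rhoApp Z F).app V s) =
        ((H0 Z).obj F).presheaf.germ V x hxV 0 := by
      rw [map_zero]; exact (hmap V hxV s).symm.trans hz
    obtain ⟨W, hxW, i₁, i₂, e⟩ := ((H0 Z).obj F).presheaf.germ_eq x hxV hxV _ _ hz
    rw [map_zero] at e
    have e' : (rhoApp Z F).app W (res F i₁.le s) = 0 := (app_res _ i₁.le s).trans e
    rw [rho_app_apply ⊥] at e'
    obtain ⟨W', hW', T', hT, hxW', h0⟩ := exists_local_zero ⊥ W _ e' hxW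
    rw [res_res, res_res] at h0
    rw [← Groth.CohTwo.stalk_germ_res F x ((inf_le_left.trans hW').trans i₁.le)
      (show x ∈ W' ⊓ T'.U from ⟨hxW', mem_U_of_not_mem hx T'⟩) s, h0, map_zero]
  · obtain ⟨V, hxV, s, rfl⟩ := Groth.CohTwo.stalk_exists_germ ((H0 Z).obj F) x z
    obtain ⟨W, hW, T, t, hxW, ht⟩ := exists_local_rep V s hxV
    refine ⟨F.presheaf.germ (W ⊓ T.U) x ⟨hxW, mem_U_of_not_mem hx T⟩ t, (hmap _ _ t).trans ?_⟩
    rw [rho_self, ht, res_res, Groth.CohTwo.stalk_germ_res]

section UP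

variable {F' : X.Modules} (hF' : IsZClosed Z F')

include hF'

theorem hom_ext_of_rho {v w : (H0 Z).obj F ⟶ F'} (h : rhoApp Z F ≫ v = rhoApp Z F ≫ w) : v = w := by
  refine Groth.CohTwo.hom_ext_app fun V s => eq_of_local F' _ _ fun x hx => ?_
  obtain ⟨W, hW, T, t, hxW, ht⟩ := exists_local_rep V s hx
  refine ⟨W, hW, hxW, ((isZClosed_iff_res_bijective Z F').1 hF' T W).1 ?_⟩
  rw [← app_res, ← app_res, ← app_res, ← app_res, ← ht, ← rho_self]
  exact congr($(congrArg (fun φ => Scheme.Modules.Hom.app φ (W ⊓ T.U)) h) t)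

theorem existsUnique_fac (u : F ⟶ F') : ∃! v : (H0 Z).obj F ⟶ F', rhoApp Z F ≫ v = u := by
  have : IsIso (rhoApp Z F') := hF'
  have h1 : rhoApp Z F ≫ (H0 Z).map u = u ≫ rhoApp Z F' := ((rho Z).naturality u).symm
  have h2 : rhoApp Z F ≫ (H0 Z).map u ≫ inv (rhoApp Z F') = u := by
    rw [← Category.assoc, h1, Category.assoc, IsIso.hom_inv_id, Category.comp_id]
  exact ⟨(H0 Z).map u ≫ inv (rhoApp Z F'), h2, fun w hw => hom_ext_of_rho hF' (hw.trans h2.symm)⟩

end UP

end Groth.ZClosAux
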