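import Groth.Prelude.Def_ZClos
import Groth.Agent.CohTwo.Glue
import Groth.Agent.CohTwo.Stalk
import Groth.Agent.CohTwo.ColimStalk
import Groth.Agent.Rat20Ext.Closure
import Mathlib.AlgebraicGeometry.Noetherian

/-!
Sections of the Z-closure `H⁰_{X/Z}(F)`: elementwise description as a directed colimit of sections off
closed subsets of `Z`.
-/

universe u

open CategoryTheory CategoryTheory.Limits AlgebraicGeometry TopologicalSpace Opposite

set_option backward.isDefEq.respectTransparency false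

namespace Groth.ZClosAux

open ZClos
open Groth.CohTwo (res res_rfl res_res app_res eq_of_local exists_glue stalkAb)

variable {X : Scheme.{u}} {Z : Set X} {F : X.Modules}

theorem le_image_preimage (U V : X.Opens) : V ⊓ U ≤ U.ι ''ᵁ U.ι ⁻¹ᵁ V := by
  rw [ι_image_preimage, inf_comm]

theorem image_preimage_le (U V : X.Opens) : U.ι ''ᵁ U.ι ⁻¹ᵁ V ≤ V ⊓ U := by
  rw [ι_image_preimage, inf_comm]

theorem inf_U_le {T T' : Cl Z} (h : T ≤ T') (V : X.Opens) : V ⊓ T'.U ≤ V ⊓ T.U :=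
  inf_le_inf_left V (Cl.U_anti h)

theorem sup_U (T T' : Cl Z) : (T ⊔ T').U = T.U ⊓ T'.U := by
  ext x
  change x ∉ ((T.1 ⊔ T'.1 : Closeds X) : Set X) ↔ x ∉ (T.1 : Set X) ∧ x ∉ (T'.1 : Set X)
  rw [Closeds.coe_sup, Set.mem_union, not_or]

theorem bot_U : (⊥ : Cl Z).U = ⊤ := by
  ext x
  change x ∉ ((⊥ : Closeds X) : Set X) ↔ x ∈ ((⊤ : X.Opens) : Set X)
  simp

theorem mem_U_of_not_mem {x : X} (hx : x ∉ Z) (T : Cl Z) : x ∈ T.U := fun h => hx (T.2 h)

variable (Z F) in
/-- The class in `H⁰` of a section defined off `T`. -/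
noncomputable def imgH (T : Cl Z) (V : X.Opens) : Γ(F, V ⊓ T.U) →+ Γ((H0 Z).obj F, V) :=
  ((colimit.ι ((diagram Z).obj F) T).app V).hom.comp (res F (image_preimage_le T.U V))

theorem smul_resPush (U : X.Opens) (F : X.Modules) (V : X.Opens) (r : Γ(X, V))
    (z : Γ(F, U.ι ''ᵁ U.ι ⁻¹ᵁ V)) :
    (r • (show Γ((resPush U).obj F, V) from z) : Γ((resPush U).obj F, V)) =
      (show Γ((resPush U).obj F, V) from
        (Groth.CohTwo.resR X (U.ι.image_preimage_le V) r • z : Γ(F, U.ι ''ᵁ U.ι ⁻¹ᵁ V))) := by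
  change (U.ι.appIso (U.ι ⁻¹ᵁ V)).inv (U.ι.app V r) • z = _
  rw [← ConcreteCategory.comp_apply, Scheme.Hom.app_appIso_inv]
  rfl

theorem ι_app_eq (T : Cl Z) (V : X.Opens) (z : Γ(F, T.U.ι ''ᵁ T.U.ι ⁻¹ᵁ V)) :
    (colimit.ι ((diagram Z).obj F) T).app V z = imgH Z F T V (res F (le_image_preimage T.U V) z) := by
  change _ = (colimit.ι ((diagram Z).obj F) T).app V
    (res F (image_preimage_le T.U V) (res F (le_image_preimage T.U V) z))
  rw [res_res, res_rfl]

theorem res_imgH (T : Cl Z) {V V' : X.Opens} (h : V' ≤ V) (t : Γ(F, V ⊓ T.U)) :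
    res ((H0 Z).obj F) h (imgH Z F T V t) =
      imgH Z F T V' (res F (inf_le_inf_right T.U h) t) := by
  refine ((app_res (colimit.ι ((diagram Z).obj F) T) h
    (res F (image_preimage_le T.U V) t)).symm).trans ?_
  change (colimit.ι ((diagram Z).obj F) T).app V'
      (res F (T.U.ι.opensFunctor.map ((Opens.map T.U.ι.base).map (homOfLE h))).le
        (res F (image_preimage_le T.U V) t)) =
    (colimit.ι ((diagram Z).obj F) T).app V' (res F (image_preimage_le T.U V') _)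
  rw [res_res, res_res]

theorem imgH_trans {T T' : Cl Z} (h : T ≤ T') (V : X.Opens) (t : Γ(F, V ⊓ T.U)) :
    imgH Z F T' V (res F (inf_U_le h V) t) = imgH Z F T V t := by
  have hw := colimit.w ((diagram Z).obj F) (homOfLE h)
  change (colimit.ι ((diagram Z).obj F) T').app V
      (res F (image_preimage_le T'.U V) (res F (inf_U_le h V) t)) =
    (colimit.ι ((diagram Z).obj F) T).app V (res F (image_preimage_le T.U V) t)
  rw [← hw, Scheme.Modules.Hom.comp_app, ConcreteCategory.comp_apply]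
  refine congrArg _ ?_
  change _ = (resPushMapApp (Cl.U_anti h) F).app V _
  rw [resPushMapApp_app]
  exact (res_res F _ _ _).trans (res_res F _ _ _).symm

theorem imgH_smul (T : Cl Z) (V : X.Opens) (r : Γ(X, V)) (t : Γ(F, V ⊓ T.U)) :
    imgH Z F T V (Groth.CohTwo.resR X (inf_le_left : V ⊓ T.U ≤ V) r • t) = r • imgH Z F T V t := by
  change (colimit.ι ((diagram Z).obj F) T).app V (res F (image_preimage_le T.U V) (_ • t)) =
    r • (colimit.ι ((diagram Z).obj F) T).app V (res F (image_preimage_le T.U V) t)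
  rw [← Scheme.Modules.Hom.app_smul, Groth.CohTwo.res_smul]
  refine congrArg ((colimit.ι ((diagram Z).obj F) T).app V) ?_
  let w : Γ(F, T.U.ι ''ᵁ T.U.ι ⁻¹ᵁ V) := res F (image_preimage_le T.U V) t
  change Groth.CohTwo.resR X _ (Groth.CohTwo.resR X _ r) • w =
    (r • (show Γ((resPush T.U).obj F, V) from w) : Γ((resPush T.U).obj F, V))
  rw [smul_resPush]
  refine congrArg (· • w) ?_
  exact (ConcreteCategory.comp_apply _ _ r).symm.trans (congr($((X.presheaf.map_comp _ _).symm) r))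

theorem rho_app_apply (T : Cl Z) (V : X.Opens) (s : Γ(F, V)) :
    (rhoApp Z F).app V s = imgH Z F T V (res F (inf_le_left : V ⊓ T.U ≤ V) s) := by
  rw [rhoApp_eq Z F T, Scheme.Modules.Hom.comp_app, ConcreteCategory.comp_apply]
  change (colimit.ι ((diagram Z).obj F) T).app V (res F (T.U.ι.image_preimage_le V) s) = _
  rw [ι_app_eq, res_res]

theorem rho_self (T : Cl Z) (V : X.Opens) (t : Γ(F, V ⊓ T.U)) :
    (rhoApp Z F).app (V ⊓ T.U) t = res ((H0 Z).obj F) inf_le_left (imgH Z F T V t) := by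
  rw [res_imgH, rho_app_apply T]

theorem exists_local_rep (V : X.Opens) (s : Γ((H0 Z).obj F, V)) {x : X} (hx : x ∈ V) :
    ∃ (W : X.Opens) (h : W ≤ V) (T : Cl Z) (t : Γ(F, W ⊓ T.U)), x ∈ W ∧
      imgH Z F T W t = res ((H0 Z).obj F) h s := by
  obtain ⟨T, y, hy⟩ := Concrete.isColimit_exists_rep _
    (isColimitOfPreserves (stalkAb X x) (colimit.isColimit ((diagram Z).obj F)))
    (((H0 Z).obj F).presheaf.germ V x hx s)
  obtain ⟨W, hxW, z, rfl⟩ := Groth.CohTwo.stalk_exists_germ (((diagram Z).obj F).obj T) x y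
  have e : ((H0 Z).obj F).presheaf.germ W x hxW ((colimit.ι ((diagram Z).obj F) T).app W z) =
      ((H0 Z).obj F).presheaf.germ V x hx s :=
    (Groth.CohTwo.stalkLin_germ _ x hxW z).symm.trans hy
  obtain ⟨W', hxW', i₁, i₂, e'⟩ := ((H0 Z).obj F).presheaf.germ_eq x hxW hx _ _ e
  refine ⟨W', i₂.le, T, res F (inf_le_inf_right T.U i₁.le) (res F (le_image_preimage T.U W) z),
    hxW', ?_⟩
  rw [← res_imgH, ← ι_app_eq]
  exact e'

theorem exists_local_zero (T : Cl Z) (V : X.Opens) (t : Γ(F, V ⊓ T.U))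
    (h : imgH Z F T V t = 0) {x : X} (hx : x ∈ V) :
    ∃ (W : X.Opens) (hW : W ≤ V) (T' : Cl Z) (hT : T ≤ T'), x ∈ W ∧
      res F ((inf_U_le hT W).trans (inf_le_inf_right T.U hW)) t = 0 := by
  let z : Γ(((diagram Z).obj F).obj T, V) := res F (image_preimage_le T.U V) t
  have hz : (colimit.ι ((diagram Z).obj F) T).app V z = 0 := h
  let hc := isColimitOfPreserves (stalkAb X x) (colimit.isColimit ((diagram Z).obj F))
  have hzero : ((stalkAb X x).map (colimit.ι ((diagram Z).obj F) T))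
      ((((diagram Z).obj F).obj T).presheaf.germ V x hx z) =
      ((stalkAb X x).map (colimit.ι ((diagram Z).obj F) T)) 0 := by
    rw [map_zero]
    refine (Groth.CohTwo.stalkLin_germ _ x hx z).trans ?_
    rw [hz, map_zero]
  obtain ⟨T', f, g, hfg⟩ := (Concrete.isColimit_rep_eq_iff_exists _ hc _ _).mp hzero
  have h0 : (((diagram Z).obj F).obj T').presheaf.germ V x hx ((((diagram Z).obj F).map f).app V z) =
      (((diagram Z).obj F).obj T').presheaf.germ V x hx 0 := by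
    rw [map_zero]
    exact (Groth.CohTwo.stalkLin_germ _ x hx z).symm.trans (hfg.trans (map_zero _))
  obtain ⟨W, hxW, i₁, i₂, e'⟩ := (((diagram Z).obj F).obj T').presheaf.germ_eq x hx hx _ _ h0
  rw [map_zero] at e'
  refine ⟨W, i₁.le, T', f.le, hxW, ?_⟩
  have e2 := congrArg (res F (le_image_preimage T'.U W)) e'
  change res F _ (res F (T'.U.ι.opensFunctor.map ((Opens.map T'.U.ι.base).map i₁)).le
    ((resPushMapApp (Cl.U_anti f.le) F).app V (res F (image_preimage_le T.U V) t))) = _ at e2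
  rw [resPushMapApp_app] at e2
  change res F _ (res F _ (res F (resPush_le (Cl.U_anti f.le) V) (res F _ t))) = _ at e2
  rw [res_res, res_res, res_res] at e2
  exact e2.trans (map_zero _)

theorem exists_upper {ι : Type*} [Finite ι] (T₀ : Cl Z) (T : ι → Cl Z) :
    ∃ T' : Cl Z, T₀ ≤ T' ∧ ∀ i, T i ≤ T' := by
  classical
  have := Fintype.ofFinite ι
  exact ⟨T₀ ⊔ Finset.univ.sup T, le_sup_left,
    fun i => le_sup_of_le_right (Finset.le_sup (Finset.mem_univ i))⟩

theorem exists_zero_of_isCompact (T : Cl Z) {V : X.Opens} (hV : IsCompact (V : Set X))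
    (t : Γ(F, V ⊓ T.U)) (h : imgH Z F T V t = 0) :
    ∃ (T' : Cl Z) (hT : T ≤ T'), res F (inf_U_le hT V) t = 0 := by
  choose W hW T' hT hxW hzero using fun x : {x : X // x ∈ V} => exists_local_zero T V t h x.2
  obtain ⟨S, hS⟩ := hV.elim_finite_subcover (fun x => (W x : Set X)) (fun x => (W x).isOpen)
    (fun x hx => Set.mem_iUnion.2 ⟨⟨x, hx⟩, hxW _⟩)
  obtain ⟨U, hU₀, hU⟩ := exists_upper T (fun i : S => T' i.1)
  refine ⟨U, hU₀, eq_of_local F _ _ fun y hy => ?_⟩
  obtain ⟨x, hx, hyx⟩ := Set.mem_iUnion₂.1 (hS hy.1)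
  refine ⟨W x ⊓ U.U, inf_le_inf_right _ (hW x), ⟨hyx, hy.2⟩, ?_⟩
  rw [res_res, map_zero]
  have := congrArg (res F (inf_U_le (hU ⟨x, hx⟩) (W x))) (hzero x)
  rwa [res_res, map_zero] at this

section Noetherian

variable [IsLocallyNoetherian X]

theorem noetherianSpace_of_isCompact {V : X.Opens} (hV : IsCompact (V : Set X)) :
    NoetherianSpace (V : Set X) := by
  obtain ⟨S, hS, hSV⟩ := isCompact_and_isOpen_iff_finite_and_eq_biUnion_affineOpens.mp ⟨hV, V.isOpen⟩
  have : Finite S := hS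
  have h : (V : Set X) = ⋃ i : S, (i.1.1 : Set X) := by rw [hSV, Set.biUnion_eq_iUnion]
  rw [h]
  refine @NoetherianSpace.iUnion X _ S (fun i => (i.1.1 : Set X)) _ fun i => ?_
  have := IsLocallyNoetherian.component_noetherian i.1
  exact noetherianSpace_of_isAffineOpen i.1.1 i.1.2

theorem isCompact_of_le {V W : X.Opens} (hV : IsCompact (V : Set X)) (h : W ≤ V) :
    IsCompact (W : Set X) := by
  have := noetherianSpace_of_isCompact hV
  have := (NoetherianSpace.isCompact ((↑) ⁻¹' (W : Set X) : Set (V : Set X))).image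
    continuous_subtype_val
  rwa [Subtype.image_preimage_coe, Set.inter_eq_right.mpr h] at this

omit [IsLocallyNoetherian X] in
theorem exists_affine_le {V : X.Opens} {x : X} (hx : x ∈ V) :
    ∃ A : X.Opens, IsAffineOpen A ∧ x ∈ A ∧ A ≤ V := by
  obtain ⟨_, ⟨A, hA, rfl⟩, hxA, hAV⟩ :=
    X.isBasis_affineOpens.exists_subset_of_mem_open hx V.isOpen
  exact ⟨A, hA, hxA, hAV⟩

theorem exists_rep {V : X.Opens} (hV : IsCompact (V : Set X)) (s : Γ((H0 Z).obj F, V)) :
    ∃ (T : Cl Z) (t : Γ(F, V ⊓ T.U)), imgH Z F T V t = s := by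
  choose W hW T t hxW ht using fun x : {x : X // x ∈ V} => exists_local_rep V s x.2
  obtain ⟨S, hS⟩ := hV.elim_finite_subcover (fun x => (W x : Set X)) (fun x => (W x).isOpen)
    (fun x hx => Set.mem_iUnion.2 ⟨⟨x, hx⟩, hxW _⟩)
  have hcomp : ∀ p : S × S, ∃ (T' : Cl Z) (hT : T p.1.1 ⊔ T p.2.1 ≤ T'),
      res F ((inf_U_le (le_sup_left.trans hT) (W p.1.1 ⊓ W p.2.1)).trans
          (inf_le_inf_right _ inf_le_left)) (t p.1.1) =
        res F ((inf_U_le (le_sup_right.trans hT) (W p.1.1 ⊓ W p.2.1)).trans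
          (inf_le_inf_right _ inf_le_right)) (t p.2.1) := by
    intro p
    let O := W p.1.1 ⊓ W p.2.1
    have h0 : imgH Z F (T p.1.1 ⊔ T p.2.1) O
        (res F (inf_U_le (le_sup_left : T p.1.1 ≤ T p.1.1 ⊔ T p.2.1) O) (res F (inf_le_inf_right _ (inf_le_left : W p.1.1 ⊓ W p.2.1 ≤ W p.1.1)) (t p.1.1)) -
          res F (inf_U_le (le_sup_right : T p.2.1 ≤ T p.1.1 ⊔ T p.2.1) O) (res F (inf_le_inf_right _ (inf_le_right : W p.1.1 ⊓ W p.2.1 ≤ W p.2.1)) (t p.2.1))) = 0 := by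
      rw [map_sub, imgH_trans (le_sup_left : T p.1.1 ≤ T p.1.1 ⊔ T p.2.1),
        imgH_trans (le_sup_right : T p.2.1 ≤ T p.1.1 ⊔ T p.2.1),
        ← res_imgH (T p.1.1) (inf_le_left : O ≤ W p.1.1),
        ← res_imgH (T p.2.1) (inf_le_right : O ≤ W p.2.1), ht, ht, res_res, res_res, sub_self]
    obtain ⟨T', hT, h'⟩ := exists_zero_of_isCompact _
      (isCompact_of_le hV (inf_le_left.trans (hW p.1.1))) _ h0
    refine ⟨T', hT, ?_⟩
    rwa [map_sub, res_res, res_res, res_res, res_res, sub_eq_zero] at h'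
  choose T' hT' heq using hcomp
  classical
  obtain ⟨U₀, -, hU₀⟩ := exists_upper ⊥ (fun i : S => T i.1)
  obtain ⟨U, hU, hU'⟩ := exists_upper U₀ T'
  obtain ⟨g, hg⟩ := exists_glue F (W := V ⊓ U.U) (ι := ↥S) (fun i => W i.1 ⊓ U.U)
    (fun i => inf_le_inf_right _ (hW i.1))
    (fun y hy => by
      obtain ⟨x, hx, hyx⟩ := Set.mem_iUnion₂.1 (hS hy.1)
      exact ⟨⟨x, hx⟩, hyx, hy.2⟩)
    (fun i => res F (inf_U_le ((hU₀ i).trans hU) _) (t i.1)) (fun i j => by
      rw [res_res, res_res]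
      have hle : W i.1 ⊓ U.U ⊓ (W j.1 ⊓ U.U) ≤ W i.1 ⊓ W j.1 ⊓ (T' (i, j)).U :=
        le_inf (inf_le_inf inf_le_left inf_le_left)
          (inf_le_left.trans (inf_le_right.trans (Cl.U_anti (hU' (i, j)))))
      have := congrArg (res F hle) (heq (i, j))
      rwa [res_res, res_res] at this)
  refine ⟨U, g, eq_of_local _ _ _ fun y hy => ?_⟩
  obtain ⟨x, hx, hyx⟩ := Set.mem_iUnion₂.1 (hS hy)
  refine ⟨W x, hW x, hyx, ?_⟩
  rw [res_imgH, hg ⟨x, hx⟩, imgH_trans ((hU₀ ⟨x, hx⟩).trans hU), ht]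

/-- A locally closed subset of a set stable under specialization has closure inside it. -/
theorem closure_subset_of_stable (hZ : StableUnderSpecialization Z) {U S : Set X} (hU : IsOpen U)
    (hS : S ⊆ U) (hS' : closure S ∩ U ⊆ S) (hSZ : S ⊆ Z) : closure S ⊆ Z := by
  intro x hx
  obtain ⟨A, hA, hxA, -⟩ := exists_affine_le (V := ⊤) (x := x) trivial
  have := IsLocallyNoetherian.component_noetherian ⟨A, hA⟩
  have hNS : NoetherianSpace (A : Set X) := noetherianSpace_of_isAffineOpen A hA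
  have : QuasiSober (A : Set X) := A.isOpen.isOpenEmbedding_subtypeVal.quasiSober
  let S' : Set (A : Set X) := Subtype.val ⁻¹' S
  have hmem : ∀ y : (A : Set X), y ∈ closure S' ↔ y.1 ∈ closure S := by
    intro y
    rw [closure_subtype, Subtype.image_preimage_coe]
    refine ⟨fun h => closure_mono Set.inter_subset_right h, fun h => ?_⟩
    refine mem_closure_iff.mpr fun o ho hyo => ?_
    obtain ⟨z, ⟨hzo, hzA⟩, hzS⟩ := mem_closure_iff.mp h (o ∩ A) (ho.inter A.isOpen) ⟨hyo, y.2⟩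
    exact ⟨z, hzo, hzA, hzS⟩
  let U' : Set (A : Set X) := Subtype.val ⁻¹' U
  have hU' : IsOpen U' := hU.preimage continuous_subtype_val
  have h1 : S' ⊆ U' := fun y (hy : y.1 ∈ S) => hS hy
  have h2 : closure S' ∩ U' ⊆ S' := fun y hy => hS' ⟨(hmem y).mp hy.1, (hy.2 : y.1 ∈ U)⟩
  obtain ⟨z, hz, hzx⟩ := Groth.Rat20Ext.exists_specializes_of_mem_closure hU' h1 h2
    (x := (⟨x, hxA⟩ : (A : Set X))) ((hmem _).mpr hx)
  exact hZ (hzx.map continuous_subtype_val) (hSZ hz)

end Noetherian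

end Groth.ZClosAux
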