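import Groth.Agent.SchemeMorphisms.ZClos.HullSections

/-!
Every element of the hull is a section of the Z-closure when the associated point is unique.
-/

universe u

open CategoryTheory CategoryTheory.Limits AlgebraicGeometry TopologicalSpace Opposite

set_option backward.isDefEq.respectTransparency false

namespace Groth.ZClosAux

open ZClos
open Groth.CohTwo (res res_res app_res exists_glue stalkLin stalkLin_germ stalk_germ_res
  stalk_germ_smul)
open Groth.SchemeMorphisms (fromSpec_mem primeIdealOf_fromSpec)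

variable {X : Scheme.{u}} {Z : Set X} {F : X.Modules} [F.IsQuasicoherent]

theorem exists_theta_eq (hX : IsAffineOpen (⊤ : X.Opens)) (q : Spec Γ(X, (⊤ : X.Opens)))
    {P : Type u} [AddCommGroup P] [Module Γ(X, (⊤ : X.Opens)) P]
    (g : Γ(F, (⊤ : X.Opens)) →ₗ[Γ(X, (⊤ : X.Opens))] P) (hg : Function.Bijective g)
    (hq : hX.fromSpec q ∉ Z) (hass : ∀ y ∈ AssSch.Ass F, y = hX.fromSpec q)
    (hlow : ∀ r : Spec Γ(X, (⊤ : X.Opens)), q.asIdeal ≤ r.asIdeal → hX.fromSpec r ∉ Z →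
      (r.asIdeal.map (Ideal.Quotient.mk q.asIdeal)).height ≤ 1)
    {z : LocalizedModule q.asIdeal.primeCompl P} (hz : z ∈ hull q.asIdeal P) :
    ∃ s, theta hX q g hq s = z := by
  classical
  set x := hX.fromSpec q with hx_def
  obtain ⟨z', hz'⟩ := psi_surjective hX q g hg.2 z
  let U : Set X := {y | ∃ (W : X.Opens) (t : Γ(F, W)), y ∈ W ∧
    ∀ hxW : x ∈ W, F.presheaf.germ W x hxW t = z'}
  have hUo : IsOpen U := by
    refine isOpen_iff_forall_mem_open.mpr fun y hy => ?_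
    obtain ⟨W, t, hyW, ht⟩ := hy
    exact ⟨W, fun y' hy' => ⟨W, t, hy', ht⟩, W.isOpen, hyW⟩
  have hmem : ∀ y, y ∉ Z → y ∈ U := by
    intro y hyZ
    by_cases hxy : x ⤳ y
    · set r := hX.primeIdealOf ⟨y, trivial⟩
      have hry : hX.fromSpec r = y := hX.fromSpec_primeIdealOf ⟨y, trivial⟩
      have hqr : q.asIdeal ≤ r.asIdeal := by
        rw [hx_def, ← hry, hX.fromSpec.isOpenEmbedding.isInducing.specializes_iff] at hxy
        exact (PrimeSpectrum.le_iff_specializes q r).mpr hxy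
      obtain ⟨s, hs, p, hp⟩ := hz r.asIdeal r.isPrime hqr (hlow r hqr (by rwa [hry]))
      obtain ⟨m, rfl⟩ := hg.2 p
      have hsm : X.presheaf.germ ⊤ x (fromSpec_mem hX q) s • z' =
          F.presheaf.germ ⊤ x (fromSpec_mem hX q) m := by
        refine psi_injective hX q g hg.1 ?_
        rw [psi_smul, psi_germ, hz', hp]
      have hu : IsUnit (Groth.CohTwo.resR X (X.basicOpen_le s) s) :=
        RingedSpace.isUnit_res_basicOpen _ _
      refine ⟨X.basicOpen s, (↑hu.unit⁻¹ : Γ(X, X.basicOpen s)) • res F (X.basicOpen_le s) m,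
        (Groth.QCohMod.mem_basicOpen_iff_notMem_primeIdealOf hX s y trivial).mpr hs, fun hxW => ?_⟩
      have hus : IsUnit (X.presheaf.germ ⊤ x (fromSpec_mem hX q) s) :=
        (Scheme.mem_basicOpen X s x (fromSpec_mem hX q)).mp hxW
      refine hus.smul_left_cancel.mp ?_
      rw [hsm, stalk_germ_smul, stalk_germ_res, ← mul_smul]
      rw [show X.presheaf.germ ⊤ x (fromSpec_mem hX q) s =
          X.presheaf.germ (X.basicOpen s) x hxW (Groth.CohTwo.resR X (X.basicOpen_le s) s) from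
        (TopCat.Presheaf.germ_res_apply X.presheaf (homOfLE (X.basicOpen_le s)) x hxW s).symm,
        ← map_mul, IsUnit.mul_val_inv, map_one, one_smul]
    · refine ⟨⟨(closure {x})ᶜ, isClosed_closure.isOpen_compl⟩, 0,
        fun h => hxy (specializes_iff_mem_closure.mpr h), fun hxW => (hxW (subset_closure (Set.mem_singleton x))).elim⟩
  choose W t hyW ht using fun y : U => y.2
  obtain ⟨tU, htU⟩ := exists_glue F (W := (⟨U, hUo⟩ : X.Opens)) (ι := U)
    (fun y => W y ⊓ ⟨U, hUo⟩) (fun y => inf_le_right) (fun y hy => ⟨⟨y, hy⟩, hyW _, hy⟩)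
    (fun y => res F inf_le_left (t y)) (fun i j => by
      refine TopCat.Presheaf.section_ext ⟨F.presheaf, F.isSheaf⟩ _ _ _ fun w hw => ?_
      refine sub_eq_zero.mp ?_
      erw [← map_sub]
      by_contra hne
      obtain ⟨y, hy, -, hwa, hy0⟩ := Groth.Divisors.exists_weakAss_germ_ne_zero
        (show Coh.IsQCoh F from ‹F.IsQuasicoherent›) _ hw hne
      obtain rfl := hass y (Groth.SchemeMorphisms.mem_ass_iff_weak.mpr hwa)
      refine hy0 ?_
      rw [map_sub, sub_eq_zero, res_res, res_res, stalk_germ_res, stalk_germ_res, ht i hy.1.1,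
        ht j hy.2.1])
  let T : Cl Z := ⟨⟨Uᶜ, hUo.isClosed_compl⟩, fun y hy => by_contra fun hyZ => hy (hmem y hyZ)⟩
  have hTU : ⊤ ⊓ T.U ≤ (⟨U, hUo⟩ : X.Opens) := fun y hy => Set.notMem_compl_iff.mp hy.2
  refine ⟨imgH Z F T ⊤ (res F hTU tU), ?_⟩
  change psi hX q g (stalkLift hX q hq _) = z
  rw [← hz']
  refine congrArg _ (eq_stalkLift hX q hq ?_).symm
  have hxU : x ∈ (⊤ : X.Opens) ⊓ T.U := ⟨trivial, mem_U_of_not_mem hq T⟩
  have hxU' : x ∈ U := hTU hxU
  have hz0 : z' = F.presheaf.germ ((⊤ : X.Opens) ⊓ T.U) x hxU (res F hTU tU) := by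
    rw [stalk_germ_res, ← stalk_germ_res F x (inf_le_right : W ⟨x, hxU'⟩ ⊓ ⟨U, hUo⟩ ≤ ⟨U, hUo⟩)
      ⟨hyW ⟨x, hxU'⟩, hxU'⟩, htU ⟨x, hxU'⟩, stalk_germ_res, ht]
  rw [hz0, stalkLin_germ, rho_self, stalk_germ_res]

end Groth.ZClosAux
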